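import Groth.Agent.Krr.H470.BlowCoh

/-!
# Blow-up of a regular sequence in an integral scheme: cohomology over affine opens
-/

set_option autoImplicit false

universe u

namespace Groth.Agent.Krr.H470.BlowAff

open CategoryTheory Limits Opposite AlgebraicGeometry BlowUp Groth.Agent.Divis Groth.Agent.Divis.BlowChart
  Groth.Agent.Divis.BlowChart2 Groth.Agent.Krr.H470.ChartInf Groth.Agent.Krr.H470.CechAlg
  Groth.Agent.Krr.H470.ChartSec Groth.Agent.Krr.H470.BlowCoh

variable {X X' : Scheme.{u}} [IsIntegral X] [IsIntegral X'] (b : X' ⟶ X) (J : X.IdealSheafData) (U : X.affineOpens)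

omit [IsIntegral X'] in
/-- `Γ(X, U) → Γ(X', chart a)` is injective. -/
theorem pb_chart_injective (hb : IsBlowUp b J) (hU : (U.1 : Set X).Nonempty) {a : Γ(X, U.1)} (ha : a ∈ J.ideal U)
    (ha0 : a ≠ 0) : Function.Injective (pb b U (chart b J U a) (chart_le b J U a)) := by
  have : Nonempty U.1 := hU.to_subtype
  have hdom : IsDomain Γ(X, U.1) := inferInstance
  obtain ⟨θ, hθ⟩ := exists_ringEquiv_chart b J U hb ha
  rw [injective_iff_map_eq_zero]
  intro x hx
  have h1 : θ (algebraMap _ _ x) = 0 := by rw [hθ]; exact hx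
  rw [map_eq_zero_iff θ θ.injective] at h1
  have h2 : algebraMap Γ(X, U.1) (Localization.Away a) x = 0 := congrArg Subtype.val h1
  obtain ⟨⟨_, m, rfl⟩, h3⟩ := (IsLocalization.map_eq_zero_iff (Submonoid.powers a) (Localization.Away a) x).1 h2
  exact (mul_eq_zero.1 h3).resolve_left (pow_ne_zero m ha0)

omit [IsIntegral X'] in
theorem nonempty_chart (hb : IsBlowUp b J) (hU : (U.1 : Set X).Nonempty) {a : Γ(X, U.1)} (ha : a ∈ J.ideal U)
    (ha0 : a ≠ 0) : ((chart b J U a : X'.Opens) : Set X').Nonempty := by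
  have : Nonempty U.1 := hU.to_subtype
  by_contra hcon
  rw [Set.not_nonempty_iff_eq_empty] at hcon
  have h1 : chart b J U a = ⊥ := TopologicalSpace.Opens.ext hcon
  have h2 : Subsingleton Γ(X', chart b J U a) := by
    rw [h1]; infer_instance
  have h3 := pb_chart_injective b J U hb hU ha ha0 (Subsingleton.elim (pb b U _ (chart_le b J U a) 0)
    (pb b U _ (chart_le b J U a) 1))
  exact zero_ne_one h3

/-- Cohomology of the structure sheaf of the blow-up of a regular sequence over an affine open. -/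
theorem affine_case (hb : IsBlowUp b J) (hU : (U.1 : Set X).Nonempty) {n : ℕ} (a : Fin n → Γ(X, U.1)) (hn : 0 < n)
    (ha : J.ideal U = Ideal.span (Set.range a)) (ha0 : ∀ k, a k ≠ 0)
    (hreg : RingTheory.Sequence.IsWeaklyRegular Γ(X, U.1) (List.ofFn a)) :
    (∀ p : ℕ, Subsingleton (CohTop.HU (X := X'.toTopCat) (Coh.toAb (Coh.structureModule X')) (p + 1) (b ⁻¹ᵁ U.1))) ∧
      Function.Bijective (b.app U.1) := by
  have : Nonempty U.1 := hU.to_subtype
  have hJ := mem_ideal J U a ha
  let ξ : X' := genericPoint X'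
  have hξa : ∀ k, ξ ∈ chart b J U (a k) := fun k =>
    ((genericPoint_spec X').mem_open_set_iff (chart b J U (a k)).isOpen).mpr
      (by simpa using nonempty_chart b J U hb hU (hJ k) (ha0 k))
  have hξ : ξ ∈ b ⁻¹ᵁ U.1 := chart_le b J U _ (hξa ⟨0, hn⟩)
  have hinj : Function.Injective (al b U ξ hξ) := by
    rw [injective_iff_map_eq_zero]
    intro x hx
    rw [← gm_pb b U ξ hξ _ (chart_le b J U (a ⟨0, hn⟩)) (hξa _)] at hx
    have h1 : pb b U _ (chart_le b J U (a ⟨0, hn⟩)) x = 0 :=
      germ_injective_of_isIntegral _ ξ (hξa _) (by rw [map_zero]; exact hx)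
    exact pb_chart_injective b J U hb hU (hJ ⟨0, hn⟩) (ha0 _) (by rw [h1, map_zero])
  let _ : Field (X'.presheaf.stalk ξ) := inferInstanceAs (Field X'.functionField)
  have hu : ∀ k, IsUnit (al b U ξ hξ (a k)) := fun k => by
    rw [isUnit_iff_ne_zero]
    intro h0
    exact ha0 k (hinj (by rw [h0, map_zero]))
  have hE : letI := (al b U ξ hξ).toAlgebra; CechExact Γ(X, U.1) (X'.presheaf.stalk ξ) a := by
    let _ := (al b U ξ hξ).toAlgebra
    exact Groth.Agent.Krr.H470.CechQR.cechExact_of_isWeaklyRegular a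
      (fun k => mem_nonZeroDivisors_of_ne_zero (ha0 k)) hreg (X'.presheaf.stalk ξ) hu hinj
  refine ⟨fun p => subsingleton_HU b J U ξ hb hξ a ha hξa hu hE p, ?_, ?_⟩
  · intro x y hxy
    apply hinj
    change gm ξ _ hξ ((b.app U.1).hom x) = gm ξ _ hξ ((b.app U.1).hom y)
    exact congrArg _ hxy
  · exact fun s => exists_app b J U ξ hb hξ a ha hξa hE hn s

end Groth.Agent.Krr.H470.BlowAff
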