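import Mathlib.Data.Fin.Parity
import Mathlib.Algebra.BigOperators.Fin
import Mathlib.RingTheory.Ideal.Operations
import Mathlib.RingTheory.Ideal.Maps
import Mathlib.Algebra.Algebra.Basic

/-!
# The Čech complex of a blow-up: algebra

For a family `a : ι → A` in a ring `A`, `J = (a_i)`, and an `A`-algebra `K` in which the `a_i` are invertible, a
`p`-cochain is a family `s i ∈ K`, `i : Fin (p + 1) → ι`, of fractions `s i = u / (∏ a (i j)) ^ m`,
`u ∈ J ^ (m (p + 1))` (sections of the structure sheaf of the blow-up of `J` on the intersections of the standard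
charts).  `CechExact A K a`: exactness of the augmented Čech complex.

* `CechExact.of_retract`, `CechExact.change`: change of rings.
* `CechExact.specialize`: the exactness passes to `A / f` when `f` is a nonzerodivisor modulo all powers of `J`.
-/

set_option autoImplicit false

namespace Groth.Agent.Krr.H470.CechAlg

open Finset

universe v w

/-! ### The square of the Čech differential -/

section DSquare

variable {ι : Type v} {M : Type w} [AddCommGroup M]

/-- The Čech differential of a family of elements of a group. -/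
def dd {p : ℕ} (s : (Fin p → ι) → M) (i : Fin (p + 1) → ι) : M :=
  ∑ j : Fin (p + 1), (-1 : ℤ) ^ (j : ℕ) • s (i ∘ j.succAbove)

lemma dd_def {p : ℕ} (s : (Fin p → ι) → M) (i : Fin (p + 1) → ι) :
    dd s i = ∑ j : Fin (p + 1), (-1 : ℤ) ^ (j : ℕ) • s (i ∘ j.succAbove) := rfl

theorem dd_dd {p : ℕ} (s : (Fin p → ι) → M) (i : Fin (p + 2) → ι) : dd (dd s) i = 0 := by
  simp only [dd_def, Finset.smul_sum, smul_smul, ← pow_add]
  rw [← Finset.sum_product' (s := (Finset.univ : Finset (Fin (p + 2))))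
    (t := (Finset.univ : Finset (Fin (p + 1))))
    (f := fun j l => (-1 : ℤ) ^ (j.val + l.val) • s ((i ∘ j.succAbove) ∘ l.succAbove))]
  refine Finset.sum_involution (fun x _ => (x.1.succAbove x.2, x.2.predAbove x.1)) ?_ ?_ ?_ ?_
  · rintro ⟨j, l⟩ -
    simp only
    rw [Fin.neg_one_pow_succAbove_add_predAbove]
    have h : (i ∘ (j.succAbove l).succAbove) ∘ (l.predAbove j).succAbove = (i ∘ j.succAbove) ∘ l.succAbove := by
      funext k
      simp only [Function.comp_apply]
      rw [Fin.succAbove_succAbove_succAbove_predAbove]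
    rw [h, neg_smul, add_neg_cancel]
  · rintro ⟨j, l⟩ - - h
    exact Fin.succAbove_ne j l (congrArg Prod.fst h)
  · intro x _
    exact Finset.mem_univ _
  · rintro ⟨j, l⟩ -
    simp only
    rw [Prod.mk.injEq]
    refine ⟨Fin.succAbove_succAbove_predAbove j l, ?_⟩
    exact Fin.predAbove_predAbove_succAbove j l

lemma dd_add {p : ℕ} (s t : (Fin p → ι) → M) (i : Fin (p + 1) → ι) :
    dd (fun j => s j + t j) i = dd s i + dd t i := by
  simp only [dd_def, smul_add, Finset.sum_add_distrib]

lemma dd_sub {p : ℕ} (s t : (Fin p → ι) → M) (i : Fin (p + 1) → ι) :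
    dd (fun j => s j - t j) i = dd s i - dd t i := by
  simp only [dd_def, smul_sub, Finset.sum_sub_distrib]

lemma dd_map {N : Type*} [AddCommGroup N] (φ : M →+ N) {p : ℕ} (s : (Fin p → ι) → M) (i : Fin (p + 1) → ι) :
    dd (fun j => φ (s j)) i = φ (dd s i) := by
  simp only [dd_def, map_sum, map_zsmul]

end DSquare

/-! ### Fractions -/

section Fr

variable {ι : Type v} {A K : Type*} [CommRing A] [CommRing K] [Algebra A K] (a : ι → A)

/-- `z` is a fraction `u / (∏ a (i j)) ^ m` with `u ∈ J ^ (m q)`. -/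
def IsFr (a : ι → A) {q : ℕ} (i : Fin q → ι) (z : K) : Prop :=
  ∃ (m : ℕ) (u : A), u ∈ Ideal.span (Set.range a) ^ (m * q) ∧
    algebraMap A K (∏ j, a (i j)) ^ m * z = algebraMap A K u

variable {a}

lemma prod_mem {q : ℕ} (i : Fin q → ι) : ∏ j, a (i j) ∈ Ideal.span (Set.range a) ^ q := by
  have h := Ideal.prod_mem_prod (s := (Finset.univ : Finset (Fin q)))
    (I := fun _ => Ideal.span (Set.range a)) (x := fun j => a (i j))
    (fun j _ => Ideal.subset_span ⟨i j, rfl⟩)
  simpa using h

lemma prod_pow_mem {q : ℕ} (i : Fin q → ι) (m : ℕ) :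
    (∏ j, a (i j)) ^ m ∈ Ideal.span (Set.range a) ^ (m * q) := by
  rw [mul_comm, pow_mul]
  exact Ideal.pow_mem_pow (prod_mem i) m

lemma IsFr.zero {q : ℕ} (i : Fin q → ι) : IsFr a i (0 : K) :=
  ⟨0, 0, Submodule.zero_mem _, by simp⟩

lemma isFr_algebraMap {q : ℕ} (i : Fin q → ι) (x : A) : IsFr a i (algebraMap A K x) :=
  ⟨0, x, by simp, by simp⟩

lemma IsFr.add {q : ℕ} {i : Fin q → ι} {z w : K} (hz : IsFr a i z) (hw : IsFr a i w) :
    IsFr a i (z + w) := by
  obtain ⟨m, u, hu, h⟩ := hz
  obtain ⟨n, v, hv, h'⟩ := hw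
  refine ⟨m + n, (∏ j, a (i j)) ^ n * u + (∏ j, a (i j)) ^ m * v, ?_, ?_⟩
  · rw [add_mul, pow_add]
    refine add_mem ?_ ?_
    · rw [mul_comm ((∏ j, a (i j)) ^ n)]
      exact Ideal.mul_mem_mul hu (prod_pow_mem i n)
    · exact Ideal.mul_mem_mul (prod_pow_mem i m) hv
  · rw [map_add, map_mul, map_mul, ← h, ← h', map_pow, map_pow]
    ring

lemma IsFr.smul {q : ℕ} {i : Fin q → ι} {z : K} (hz : IsFr a i z) (x : A) :
    IsFr a i (algebraMap A K x * z) := by
  obtain ⟨m, u, hu, h⟩ := hz
  refine ⟨m, x * u, Ideal.mul_mem_left _ _ hu, ?_⟩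
  rw [map_mul, ← h]
  ring

lemma IsFr.neg {q : ℕ} {i : Fin q → ι} {z : K} (hz : IsFr a i z) : IsFr a i (-z) := by
  have := hz.smul (-1)
  simpa using this

lemma IsFr.sub {q : ℕ} {i : Fin q → ι} {z w : K} (hz : IsFr a i z) (hw : IsFr a i w) :
    IsFr a i (z - w) := by
  rw [sub_eq_add_neg]
  exact hz.add hw.neg

lemma IsFr.zsmul {q : ℕ} {i : Fin q → ι} {z : K} (hz : IsFr a i z) (n : ℤ) : IsFr a i (n • z) := by
  have := hz.smul (n : A)
  rwa [map_intCast, ← zsmul_eq_mul] at this

lemma IsFr.sum {q : ℕ} {i : Fin q → ι} {T : Type*} (s : Finset T) (z : T → K)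
    (h : ∀ t ∈ s, IsFr a i (z t)) : IsFr a i (∑ t ∈ s, z t) := by
  classical
  induction s using Finset.induction_on with
  | empty => simpa using IsFr.zero i
  | insert t s ht ih =>
    rw [Finset.sum_insert ht]
    exact (h t (Finset.mem_insert_self _ _)).add (ih fun t' ht' => h t' (Finset.mem_insert_of_mem ht'))

/-- Restriction to a smaller intersection. -/
lemma IsFr.res {q : ℕ} {i : Fin (q + 1) → ι} (j : Fin (q + 1)) {z : K} (hz : IsFr a (i ∘ j.succAbove) z) :
    IsFr a i z := by
  obtain ⟨m, u, hu, h⟩ := hz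
  refine ⟨m, a (i j) ^ m * u, ?_, ?_⟩
  · rw [mul_add, mul_one, pow_add, mul_comm (a (i j) ^ m)]
    exact Ideal.mul_mem_mul hu (Ideal.pow_mem_pow (Ideal.subset_span (Set.mem_range_self (i j))) m)
  · rw [map_mul, ← h, Fin.prod_univ_succAbove _ j]
    simp only [map_mul, map_pow, Function.comp_apply]
    ring

lemma IsFr.dd {q : ℕ} {s : (Fin q → ι) → K} (hs : ∀ i, IsFr a i (s i)) (i : Fin (q + 1) → ι) :
    IsFr a i (dd s i) :=
  IsFr.sum _ _ fun j _ => ((hs (i ∘ j.succAbove)).res j).zsmul _

end Fr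

/-! ### Exactness -/

/-- Exactness of the augmented Čech complex of the blow-up of the ideal generated by the family `a`. -/
def CechExact {ι : Type v} (A K : Type*) [CommRing A] [CommRing K] [Algebra A K] (a : ι → A) : Prop :=
  ∀ (p : ℕ) (s : (Fin (p + 1) → ι) → K), (∀ i, IsFr a i (s i)) → (∀ i : Fin (p + 2) → ι, dd s i = 0) →
    ∃ t : (Fin p → ι) → K, (∀ i, IsFr a i (t i)) ∧ ∀ i : Fin (p + 1) → ι, dd t i = s i

section Specialize

variable {ι : Type v} {A K B L : Type*} [CommRing A] [CommRing K] [Algebra A K] [CommRing B] [CommRing L]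
  [Algebra B L] {a : ι → A} {b : ι → B}

lemma IsFr.map {π : A →+* B} {Pr : K →+* L} (hPr : ∀ x, Pr (algebraMap A K x) = algebraMap B L (π x))
    (hb : ∀ k, b k = π (a k)) {q : ℕ} {i : Fin q → ι} {z : K} (hz : IsFr a i z) : IsFr b i (Pr z) := by
  obtain ⟨m, u, hu, h⟩ := hz
  refine ⟨m, π u, ?_, ?_⟩
  · have h1 := Ideal.mem_map_of_mem π hu
    rw [Ideal.map_pow, Ideal.map_span, ← Set.range_comp] at h1
    have h2 : b = π ∘ a := funext hb
    rwa [h2]
  · rw [← hPr, ← h, map_mul, map_pow, hPr, map_prod]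
    simp only [hb, map_prod]

/-- Retracts. -/
theorem CechExact.of_retract (σ : A →+* B) (Sg : K →+* L) (hσ : ∀ x, Sg (algebraMap A K x) = algebraMap B L (σ x))
    (hb : ∀ k, b k = σ (a k)) (π : B →+* A) (Pr : L →+* K) (hπ : ∀ x, Pr (algebraMap B L x) = algebraMap A K (π x))
    (ha : ∀ k, a k = π (b k)) (hret : ∀ z, Pr (Sg z) = z) (h : CechExact B L b) : CechExact A K a := by
  intro p s hs hcoc
  obtain ⟨t, ht, hts⟩ := h p (fun i => Sg (s i)) (fun i => (hs i).map hσ hb) (fun i => by
    have := dd_map (Sg : K →+ L) s i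
    simp only [AddMonoidHom.coe_coe] at this
    rw [this, hcoc, map_zero])
  refine ⟨fun i => Pr (t i), fun i => (ht i).map hπ ha, fun i => ?_⟩
  have := dd_map (Pr : L →+ K) t i
  simp only [AddMonoidHom.coe_coe] at this
  rw [this, hts, hret]

lemma exists_lift {π : A →+* B} {Pr : K →+* L} (hPr : ∀ x, Pr (algebraMap A K x) = algebraMap B L (π x))
    (hb : ∀ k, b k = π (a k)) (hπ : Function.Surjective π) (hu : ∀ k, IsUnit (algebraMap A K (a k)))
    {q : ℕ} {i : Fin q → ι} {w : L} (hw : IsFr b i w) : ∃ z : K, IsFr a i z ∧ Pr z = w := by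
  obtain ⟨m, v, hv, h⟩ := hw
  have hJ : (Ideal.span (Set.range a) ^ (m * q)).map π = Ideal.span (Set.range b) ^ (m * q) := by
    rw [Ideal.map_pow, Ideal.map_span, ← Set.range_comp]
    have h2 : b = π ∘ a := funext hb
    rw [h2]
  rw [← hJ, Ideal.mem_map_iff_of_surjective π hπ] at hv
  obtain ⟨u, huJ, rfl⟩ := hv
  have hunit : IsUnit (algebraMap A K (∏ j, a (i j)) ^ m) := by
    rw [map_prod]
    exact IsUnit.pow m (IsUnit.prod_univ_iff.2 fun j => hu (i j))
  obtain ⟨c, hc⟩ := hunit
  refine ⟨↑c⁻¹ * algebraMap A K u, ⟨m, u, huJ, ?_⟩, ?_⟩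
  · rw [← hc, Units.mul_inv_cancel_left]
  · have hunit' : IsUnit (algebraMap B L (∏ j, b (i j)) ^ m) := by
      have h3 : algebraMap B L (∏ j, b (i j)) ^ m = Pr ↑c := by
        rw [hc, map_pow, hPr, map_prod]
        simp only [hb, map_prod]
      rw [h3]
      exact c.isUnit.map Pr
    apply hunit'.mul_left_cancel
    rw [h, ← hPr u]
    have h3 : algebraMap B L (∏ j, b (i j)) ^ m = Pr ↑c := by
      rw [hc, map_pow, hPr, map_prod]
      simp only [hb, map_prod]
    rw [h3, ← map_mul, Units.mul_inv_cancel_left]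

/-- Independence of the ring of fractions. -/
theorem CechExact.change {K L : Type*} [CommRing K] [Algebra A K] [CommRing L] [Algebra A L]
    (Pr : K →+* L) (hPr : ∀ x, Pr (algebraMap A K x) = algebraMap A L x) (hinj : Function.Injective Pr)
    (hu : ∀ k, IsUnit (algebraMap A K (a k))) :
    CechExact A K a ↔ CechExact A L a := by
  have hPr' : ∀ x, Pr (algebraMap A K x) = algebraMap A L (RingHom.id A x) := hPr
  have key : ∀ {q : ℕ} {i : Fin q → ι} {w : L}, IsFr a i w → ∃ z : K, IsFr a i z ∧ Pr z = w := fun hw =>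
    exists_lift hPr' (fun k => rfl) Function.surjective_id hu hw
  constructor
  · intro h p s hs hcoc
    choose s' hs' hss using fun i => key (hs i)
    obtain ⟨t, ht, hts⟩ := h p s' hs' (fun i => by
      apply hinj
      have := dd_map (Pr : K →+ L) s' i
      simp only [AddMonoidHom.coe_coe, hss] at this
      rw [← this, map_zero]
      exact hcoc i)
    refine ⟨fun i => Pr (t i), fun i => (ht i).map hPr' (fun k => rfl), fun i => ?_⟩
    have := dd_map (Pr : K →+ L) t i
    simp only [AddMonoidHom.coe_coe] at this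
    rw [this, hts, hss]
  · intro h p s hs hcoc
    obtain ⟨t, ht, hts⟩ := h p (fun i => Pr (s i)) (fun i => (hs i).map hPr' (fun k => rfl)) (fun i => by
      have := dd_map (Pr : K →+ L) s i
      simp only [AddMonoidHom.coe_coe] at this
      rw [this, hcoc, map_zero])
    choose t' ht' htt using fun i => key (ht i)
    refine ⟨t', ht', fun i => hinj ?_⟩
    have := dd_map (Pr : K →+ L) t' i
    simp only [AddMonoidHom.coe_coe, htt] at this
    rw [← this]
    exact hts i

/-- Specialization: if `B = A / f` and `f` is a nonzerodivisor in `K` and modulo the powers of the ideal, the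
exactness for `A` implies the exactness for `B`. -/
theorem CechExact.specialize (π : A →+* B) (Pr : K →+* L) (f : A)
    (hPr : ∀ x, Pr (algebraMap A K x) = algebraMap B L (π x))
    (hb : ∀ k, b k = π (a k)) (hπ : Function.Surjective π) (hu : ∀ k, IsUnit (algebraMap A K (a k)))
    (hinj : Function.Injective (algebraMap B L)) (hker : ∀ x, π x = 0 → ∃ y, x = f * y) (hf : π f = 0)
    (hreg : ∀ z : K, algebraMap A K f * z = 0 → z = 0)
    (hJ : ∀ (m : ℕ) (u : A), f * u ∈ Ideal.span (Set.range a) ^ m → u ∈ Ideal.span (Set.range a) ^ m)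
    (h : CechExact A K a) : CechExact B L b := by
  -- the kernel of the specialization map on fractions
  have key : ∀ {q : ℕ} {i : Fin q → ι} {z : K}, IsFr a i z → Pr z = 0 →
      ∃ y : K, IsFr a i y ∧ z = algebraMap A K f * y := by
    rintro q i z ⟨m, u, huJ, hz⟩ h0
    have h1 : π u = 0 := by
      apply hinj
      rw [← hPr, ← hz, map_mul, h0, mul_zero, map_zero]
    obtain ⟨v, rfl⟩ := hker u h1
    have hunit : IsUnit (algebraMap A K (∏ j, a (i j)) ^ m) := by
      rw [map_prod]
      exact IsUnit.pow m (IsUnit.prod_univ_iff.2 fun j => hu (i j))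
    obtain ⟨c, hc⟩ := hunit
    refine ⟨↑c⁻¹ * algebraMap A K v, ⟨m, v, hJ _ _ huJ, ?_⟩, ?_⟩
    · rw [← hc, Units.mul_inv_cancel_left]
    · have : (c : K) * z = c * (algebraMap A K f * (↑c⁻¹ * algebraMap A K v)) := by
        rw [hc, hz, ← hc, mul_left_comm (algebraMap A K f), Units.mul_inv_cancel_left, map_mul]
      exact c.isUnit.mul_left_cancel this
  intro p s hs hcoc
  choose s' hs' hss using fun i => exists_lift hPr hb hπ hu (hs i)
  have h1 : ∀ i : Fin (p + 2) → ι, ∃ y : K, IsFr a i y ∧ dd s' i = algebraMap A K f * y := by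
    intro i
    refine key (IsFr.dd hs' i) ?_
    have := dd_map (Pr : K →+ L) s' i
    simp only [AddMonoidHom.coe_coe, hss] at this
    rw [← this]
    exact hcoc i
  choose y hy hsy using h1
  have hmul : ∀ {q : ℕ} (t : (Fin q → ι) → K) (i : Fin (q + 1) → ι),
      dd (fun j => algebraMap A K f * t j) i = algebraMap A K f * dd t i := by
    intro q t i
    exact dd_map (AddMonoidHom.mulLeft (algebraMap A K f)) t i
  obtain ⟨x, hx, hxy⟩ := h (p + 1) y hy (fun i => by
    apply hreg
    rw [← hmul]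
    have : (fun j => algebraMap A K f * y j) = dd s' := by
      funext j
      exact (hsy j).symm
    rw [this]
    exact dd_dd s' i)
  obtain ⟨t, ht, hts⟩ := h p (fun i => s' i - algebraMap A K f * x i) (fun i => (hs' i).sub ((hx i).smul f))
    (fun i => by
      rw [dd_sub, hmul, hxy, hsy, sub_self])
  refine ⟨fun i => Pr (t i), fun i => (ht i).map hPr hb, fun i => ?_⟩
  have := dd_map (Pr : K →+ L) t i
  simp only [AddMonoidHom.coe_coe] at this
  rw [this, hts, map_sub, map_mul, hPr, hf, map_zero, zero_mul, sub_zero, hss]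

end Specialize

end Groth.Agent.Krr.H470.CechAlg
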