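import Groth.Agent.Krr.H470.ChartInf
import Groth.Agent.Krr.H470.CechAlg

/-!
# Sections of the structure sheaf of a blow-up on intersections of standard charts
-/

set_option autoImplicit false

universe u

namespace Groth.Agent.Krr.H470.ChartSec

open CategoryTheory AlgebraicGeometry BlowUp Groth.Agent.Divis Groth.Agent.Divis.BlowChart
  Groth.Agent.Divis.BlowChart2 Groth.Agent.Krr.H470.ChartInf Groth.Agent.Krr.H470.CechAlg

variable {X X' : Scheme.{u}}

/-- The germ at a point as a ring homomorphism. -/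
noncomputable abbrev gm (ξ : X') (W : X'.Opens) (hW : ξ ∈ W) : Γ(X', W) →+* X'.presheaf.stalk ξ :=
  (X'.presheaf.germ W ξ hW).hom

lemma gm_res (ξ : X') {W V : X'.Opens} (h : W ≤ V) (hW : ξ ∈ W) (s : Γ(X', V)) :
    gm ξ W hW ((X'.presheaf.map (homOfLE h).op).hom s) = gm ξ V (h hW) s :=
  TopCat.Presheaf.germ_res_apply X'.presheaf (homOfLE h) ξ hW s

variable (b : X' ⟶ X) (J : X.IdealSheafData) (U : X.affineOpens) (ξ : X')

/-- The functions on `U` as germs. -/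
noncomputable def al (hξ : ξ ∈ b ⁻¹ᵁ U.1) : Γ(X, U.1) →+* X'.presheaf.stalk ξ :=
  (gm ξ (b ⁻¹ᵁ U.1) hξ).comp (b.app U.1).hom

lemma gm_pb (hξ : ξ ∈ b ⁻¹ᵁ U.1) (W : X'.Opens) (e : W ≤ b ⁻¹ᵁ U.1) (hW : ξ ∈ W) (a : Γ(X, U.1)) :
    gm ξ W hW (pb b U W e a) = al b U ξ hξ a := by
  have h : pb b U W e a = (X'.presheaf.map (homOfLE e).op).hom ((b.app U.1).hom a) := by
    have h1 : b.appLE U.1 W e = b.app U.1 ≫ X'.presheaf.map (homOfLE e).op := rfl
    rw [pb, h1]
    rfl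
  rw [h, gm_res]
  rfl

variable (hb : IsBlowUp b J) (hξ : ξ ∈ b ⁻¹ᵁ U.1) {n : ℕ} (a : Fin n → Γ(X, U.1))
  (ha : J.ideal U = Ideal.span (Set.range a)) (hξa : ∀ k, ξ ∈ chart b J U (a k))

include hξa in
lemma mem_iInf {q : ℕ} (i : Fin q → Fin n) : ξ ∈ ⨅ j, chart b J U (a (i j)) := by
  rw [← SetLike.mem_coe, TopologicalSpace.Opens.coe_iInf, Set.mem_iInter]
  exact fun j => hξa (i j)

include ha in
lemma mem_ideal (k : Fin n) : a k ∈ J.ideal U := by
  rw [ha]; exact Ideal.subset_span ⟨k, rfl⟩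

/-- The functions `a_k` and the quotients `h`. -/
lemma al_prod {q : ℕ} (i : Fin (q + 1) → Fin n)
    (h : Fin (q + 1) → Γ(X', chart b J U (a (i 0))))
    (hh : ∀ j, pb b U _ (chart_le b J U (a (i 0))) (a (i j)) =
      pb b U _ (chart_le b J U (a (i 0))) (a (i 0)) * h j) :
    al b U ξ hξ (∏ j, a (i j)) =
      al b U ξ hξ (a (i 0)) ^ (q + 1) * gm ξ _ (hξa (i 0)) (∏ j, h j) := by
  rw [map_prod, map_prod]
  have h1 : ∀ j, al b U ξ hξ (a (i j)) = al b U ξ hξ (a (i 0)) * gm ξ _ (hξa (i 0)) (h j) := by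
    intro j
    rw [← gm_pb b U ξ hξ _ (chart_le b J U (a (i 0))) (hξa (i 0)), hh, map_mul, gm_pb]
  rw [Finset.prod_congr rfl fun j _ => h1 j, Finset.prod_mul_distrib, Finset.prod_const, Finset.card_univ, Fintype.card_fin]

variable {b J U ξ a}

include hb ha in
/-- Sections on the intersections of the charts are fractions. -/
theorem isFr_gm {q : ℕ} (i : Fin (q + 1) → Fin n) (s : Γ(X', ⨅ j, chart b J U (a (i j)))) :
    let _ := (al b U ξ hξ).toAlgebra
    IsFr a i (gm ξ _ (mem_iInf b J U ξ a hξa i) s) := by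
  let _ := (al b U ξ hξ).toAlgebra
  have hJ := mem_ideal J U a ha
  choose h hh using fun j => exists_quot b J U hb (hJ (i 0)) (hJ (i j))
  have hW := iInf_chart b J U hb (fun j => a (i j)) (fun j => hJ (i j)) h hh
  have hA := isAffineOpen_chart b J U hb (hJ (i 0))
  have hloc := hA.isLocalization_basicOpen (∏ j, h j)
  have hξb : ξ ∈ X'.basicOpen (∏ j, h j) := by
    rw [← hW]; exact mem_iInf b J U ξ a hξa i
  -- the section on the basic open
  obtain ⟨N, g, hg⟩ := IsLocalization.Away.surj (∏ j, h j)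
    ((X'.presheaf.map (homOfLE hW.ge).op).hom s)
  have hg' : gm ξ _ (mem_iInf b J U ξ a hξa i) s * gm ξ _ (hξa (i 0)) (∏ j, h j) ^ N =
      gm ξ _ (hξa (i 0)) g := by
    have h1 := congrArg (gm ξ _ hξb) hg
    rw [map_mul, map_pow, gm_res] at h1
    have h2 : ∀ x : Γ(X', chart b J U (a (i 0))), gm ξ _ hξb (algebraMap _ _ x) = gm ξ _ (hξa (i 0)) x :=
      fun x => gm_res ξ (X'.basicOpen_le _) hξb x
    rw [h2, h2] at h1
    exact h1
  obtain ⟨M, m, hm, hgm⟩ := exists_pow_mul_eq_appLE b J U hb (hJ (i 0)) g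
  have hgm' : al b U ξ hξ (a (i 0)) ^ M * gm ξ _ (hξa (i 0)) g = al b U ξ hξ m := by
    have h1 := congrArg (gm ξ _ (hξa (i 0))) hgm
    rw [map_mul, map_pow] at h1
    have h2 : ∀ x, gm ξ _ (hξa (i 0)) ((b.appLE U.1 _ (chart_le b J U (a (i 0)))).hom x) = al b U ξ hξ x :=
      fun x => gm_pb b U ξ hξ _ _ _ x
    rw [h2, h2] at h1
    exact h1
  have hprod := al_prod b J U ξ hξ a hξa i h hh
  have hprod' : al b U ξ hξ (∏ j, a (i j)) =
      al b U ξ hξ (a (i 0)) * al b U ξ hξ (∏ j : Fin q, a (i j.succ)) := by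
    rw [Fin.prod_univ_succ, map_mul]
  refine ⟨N + M, a (i 0) ^ ((q + 1) * N) * m * (∏ j : Fin q, a (i j.succ)) ^ M, ?_, ?_⟩
  · have e : (N + M) * (q + 1) = (q + 1) * N + M + M * q := by ring
    rw [e, pow_add, pow_add, ← ha]
    refine Ideal.mul_mem_mul (Ideal.mul_mem_mul (Ideal.pow_mem_pow (hJ _) _) hm) ?_
    rw [ha]
    exact prod_pow_mem (fun j : Fin q => i j.succ) M
  · change al b U ξ hξ (∏ j, a (i j)) ^ (N + M) * _ = al b U ξ hξ _
    rw [map_mul, map_mul, ← hgm', ← hg', map_pow, map_pow]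
    calc al b U ξ hξ (∏ j, a (i j)) ^ (N + M) * gm ξ _ (mem_iInf b J U ξ a hξa i) s
        = al b U ξ hξ (∏ j, a (i j)) ^ N * al b U ξ hξ (∏ j, a (i j)) ^ M *
            gm ξ _ (mem_iInf b J U ξ a hξa i) s := by rw [pow_add]
      _ = (al b U ξ hξ (a (i 0)) ^ (q + 1) * gm ξ _ (hξa (i 0)) (∏ j, h j)) ^ N *
            (al b U ξ hξ (a (i 0)) * al b U ξ hξ (∏ j : Fin q, a (i j.succ))) ^ M *
            gm ξ _ (mem_iInf b J U ξ a hξa i) s := by
          congr 1
          congr 1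
          · rw [hprod]
          · rw [hprod']
      _ = _ := by ring

include hb ha in
/-- Conversely, fractions are sections on the intersections of the charts. -/
theorem exists_gm (hu : ∀ k, IsUnit (al b U ξ hξ (a k))) {q : ℕ} (i : Fin (q + 1) → Fin n)
    (z : X'.presheaf.stalk ξ) (hz : letI := (al b U ξ hξ).toAlgebra; IsFr a i z) :
    ∃ s : Γ(X', ⨅ j, chart b J U (a (i j))), gm ξ _ (mem_iInf b J U ξ a hξa i) s = z := by
  let _ := (al b U ξ hξ).toAlgebra
  obtain ⟨M, u, hu', hz⟩ := hz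
  have hJ := mem_ideal J U a ha
  choose h hh using fun j => exists_quot b J U hb (hJ (i 0)) (hJ (i j))
  have hW := iInf_chart b J U hb (fun j => a (i j)) (fun j => hJ (i j)) h hh
  have hξb : ξ ∈ X'.basicOpen (∏ j, h j) := by
    rw [← hW]; exact mem_iInf b J U ξ a hξa i
  have hprod := al_prod b J U ξ hξ a hξa i h hh
  rw [← ha] at hu'
  obtain ⟨g, hg⟩ := exists_eq_pow_mul_appLE b J U hb (hJ (i 0)) _ hu'
  have hg' : al b U ξ hξ u = al b U ξ hξ (a (i 0)) ^ (M * (q + 1)) * gm ξ _ (hξa (i 0)) g := by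
    have h1 := congrArg (gm ξ _ (hξa (i 0))) hg
    rw [map_mul, map_pow] at h1
    have h2 : ∀ x, gm ξ _ (hξa (i 0)) ((b.appLE U.1 _ (chart_le b J U (a (i 0)))).hom x) = al b U ξ hξ x :=
      fun x => gm_pb b U ξ hξ _ _ _ x
    rw [h2, h2] at h1
    exact h1
  have hH : IsUnit ((X'.presheaf.map (homOfLE (X'.basicOpen_le (∏ j, h j))).op).hom (∏ j, h j)) :=
    RingedSpace.isUnit_res_basicOpen _ _
  obtain ⟨c, hc⟩ := hH.pow M
  let t : Γ(X', X'.basicOpen (∏ j, h j)) :=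
    ↑c⁻¹ * (X'.presheaf.map (homOfLE (X'.basicOpen_le (∏ j, h j))).op).hom g
  have ht : gm ξ _ hξb t = z := by
    have h1 : (c : Γ(X', X'.basicOpen (∏ j, h j))) * t =
        (X'.presheaf.map (homOfLE (X'.basicOpen_le (∏ j, h j))).op).hom g := Units.mul_inv_cancel_left _ _
    have h2 := congrArg (gm ξ _ hξb) h1
    rw [map_mul, gm_res, hc, map_pow, gm_res] at h2
    have h3 : IsUnit (al b U ξ hξ (∏ j, a (i j)) ^ M) := by
      rw [map_prod]
      exact IsUnit.pow M (IsUnit.prod_univ_iff.2 fun j => hu (i j))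
    apply h3.mul_left_cancel
    have h4 : al b U ξ hξ (∏ j, a (i j)) ^ M * z = al b U ξ hξ u := hz
    rw [h4, hg', ← h2, hprod]
    ring
  refine ⟨(X'.presheaf.map (homOfLE hW.le).op).hom t, ?_⟩
  rw [gm_res, ht]

end Groth.Agent.Krr.H470.ChartSec
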