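import Groth.Agent.Krr.H470.CechQR
import Groth.Agent.Krr.H470.ChartSec
import Groth.Agent.CohqA.CechBasic
import Groth.Agent.CohqA.AffineVanish
import Groth.Agent.CurvesC.UnitCoh
import Groth.Agent.S0464

/-!
# Cohomology of the structure sheaf of the blow-up of a regular sequence
-/

set_option autoImplicit false

universe u

namespace Groth.Agent.Krr.H470.BlowCoh

open CategoryTheory Limits Opposite AlgebraicGeometry BlowUp Groth.Agent.Divis Groth.Agent.Divis.BlowChart
  Groth.Agent.Divis.BlowChart2 Groth.Agent.Krr.H470.ChartInf Groth.Agent.Krr.H470.CechAlg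
  Groth.Agent.Krr.H470.ChartSec Groth.Agent.CohqA.CechBasic

variable {X X' : Scheme.{u}}

/-- The presheaf of abelian groups underlying the structure sheaf. -/
noncomputable abbrev OPre (X' : Scheme.{u}) : TopCat.Presheaf AddCommGrpCat.{u} X' :=
  Scheme.Modules.presheaf (Coh.structureModule X')

/-- The germ of a section of the presheaf underlying the structure sheaf. -/
noncomputable def gA (ξ : X') (W : X'.Opens) (hW : ξ ∈ W) : (OPre X').obj (op W) →+ X'.presheaf.stalk ξ :=
  (gm ξ W hW).toAddMonoidHom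

lemma gA_res (ξ : X') {W V : X'.Opens} (h : W ≤ V) (hW : ξ ∈ W) (s : (OPre X').obj (op V)) :
    gA ξ W hW (res (OPre X') h s) = gA ξ V (h hW) s :=
  gm_res ξ h hW s

lemma gA_injective [IsIntegral X'] (ξ : X') (W : X'.Opens) (hW : ξ ∈ W) : Function.Injective (gA ξ W hW) :=
  germ_injective_of_isIntegral _ ξ hW

variable (b : X' ⟶ X) (J : X.IdealSheafData) (U : X.affineOpens) (ξ : X')
  (hb : IsBlowUp b J) (hξ : ξ ∈ b ⁻¹ᵁ U.1) {n : ℕ} (a : Fin n → Γ(X, U.1))
  (ha : J.ideal U = Ideal.span (Set.range a)) (hξa : ∀ k, ξ ∈ chart b J U (a k))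

/-- The covering by the standard charts. -/
noncomputable def cov (k : ULift.{u} (Fin n)) : X'.Opens := chart b J U (a k.down)

lemma iInf_cov {p : ℕ} (i : Fin p → ULift.{u} (Fin n)) :
    ⨅ j, cov b J U a (i j) = ⨅ j, chart b J U (a (i j).down) := rfl

include hb ha hξa in
/-- Vanishing of Čech cohomology. -/
theorem isZero_cechH [IsIntegral X'] (hu : ∀ k, IsUnit (al b U ξ hξ (a k)))
    (hE : letI := (al b U ξ hξ).toAlgebra; CechExact Γ(X, U.1) (X'.presheaf.stalk ξ) a) (p : ℕ) :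
    IsZero (CohB1.cechHTop (X := X'.toTopCat) (cov b J U a) (OPre X') (p + 1)) := by
  let _ := (al b U ξ hξ).toAlgebra
  rw [isZero_cechHTop_succ_iff]
  intro s hs
  let m : ∀ {q : ℕ} (i : Fin q → Fin n), ξ ∈ ⨅ j, cov b J U a (ULift.up (i j)) :=
    fun i => mem_iInf b J U ξ a hξa i
  let s' : (Fin (p + 2) → Fin n) → X'.presheaf.stalk ξ := fun i =>
    gA ξ _ (m i) (s fun j => ULift.up (i j))
  have hs' : ∀ i, IsFr a i (s' i) := fun i => isFr_gm hb hξ ha hξa i _
  have hcoc : ∀ i : Fin (p + 3) → Fin n, dd s' i = 0 := by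
    intro i
    have h := congrFun hs fun j => ULift.up (i j)
    rw [dC_apply] at h
    have h2 := congrArg (gA ξ _ (m i)) h
    rw [map_sum, Pi.zero_apply, map_zero] at h2
    rw [← h2, dd_def]
    refine Finset.sum_congr rfl fun j _ => ?_
    rw [map_zsmul]
    refine congrArg _ ?_
    exact (gA_res ξ (le_face (X := X'.toTopCat) (cov b J U a) (fun j => ULift.up (i j)) j) (m i)
      (s ((fun j => ULift.up (i j)) ∘ j.succAbove))).symm
  obtain ⟨t', ht', hst⟩ := hE (p + 1) s' hs' hcoc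
  choose t ht using fun i : Fin (p + 1) → ULift.{u} (Fin n) =>
    exists_gm hb hξ ha hξa hu (fun j => (i j).down) (t' fun j => (i j).down) (ht' _)
  refine ⟨t, ?_⟩
  funext i
  apply gA_injective ξ _ (m fun j => (i j).down)
  rw [dC_apply, map_sum]
  have h := hst fun j => (i j).down
  have h3 : gA ξ _ (m fun j => (i j).down) (s i) = s' fun j => (i j).down := rfl
  rw [h3, ← h, dd_def]
  refine Finset.sum_congr rfl fun j _ => ?_
  rw [map_zsmul]
  refine congrArg _ ?_
  exact (gA_res ξ _ (m fun j => (i j).down) _).trans (ht (i ∘ j.succAbove))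

include hb ha hξa in
/-- Global sections. -/
theorem exists_app [IsIntegral X']
    (hE : letI := (al b U ξ hξ).toAlgebra; CechExact Γ(X, U.1) (X'.presheaf.stalk ξ) a) (hn : 0 < n)
    (s : Γ(X', b ⁻¹ᵁ U.1)) : ∃ c : Γ(X, U.1), (b.app U.1).hom c = s := by
  let _ := (al b U ξ hξ).toAlgebra
  have hFr : ∀ i : Fin 1 → Fin n, IsFr a i (gm ξ _ hξ s) := by
    intro i
    have hle : ⨅ j, chart b J U (a (i j)) ≤ b ⁻¹ᵁ U.1 := (iInf_le _ 0).trans (chart_le b J U _)
    have := isFr_gm hb hξ ha hξa i ((X'.presheaf.map (homOfLE hle).op).hom s)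
    rwa [gm_res] at this
  obtain ⟨t, ht, hts⟩ := hE 0 (fun _ => gm ξ _ hξ s) hFr (fun i => by
    rw [dd_def]
    simp [Fin.sum_univ_two])
  obtain ⟨m, c, -, hc⟩ := ht ![]
  refine ⟨c, germ_injective_of_isIntegral _ ξ hξ ?_⟩
  have h1 := hts ![⟨0, hn⟩]
  have h2 : dd t ![⟨0, hn⟩] = t ![] := by
    rw [dd_def, Fin.sum_univ_one]
    have h3 : (![⟨0, hn⟩] : Fin 1 → Fin n) ∘ (0 : Fin 1).succAbove = ![] := Subsingleton.elim _ _
    rw [h3]
    simp
  rw [h2] at h1
  have h3 : algebraMap Γ(X, U.1) (X'.presheaf.stalk ξ) (∏ j : Fin 0, a ((![] : Fin 0 → Fin n) j)) ^ m = 1 := by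
    rw [Finset.univ_eq_empty, Finset.prod_empty, map_one, one_pow]
  rw [h3, one_mul, h1] at hc
  exact hc.symm

include hb ha in
/-- Vanishing of cohomology. -/
theorem subsingleton_HU [IsIntegral X'] (hξa : ∀ k, ξ ∈ chart b J U (a k)) (hu : ∀ k, IsUnit (al b U ξ hξ (a k)))
    (hE : letI := (al b U ξ hξ).toAlgebra; CechExact Γ(X, U.1) (X'.presheaf.stalk ξ) a) (p : ℕ) :
    Subsingleton (CohTop.HU (X := X'.toTopCat) (Coh.toAb (Coh.structureModule X')) (p + 1) (b ⁻¹ᵁ U.1)) := by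
  have hq : Coh.IsQCoh (Coh.structureModule X') := Groth.Agent.CurvesC.UnitCoh.isQCoh_unit _
  have hJ := mem_ideal J U a ha
  obtain ⟨e⟩ := Groth.Agent.S0464.result (X := X'.toTopCat) (Coh.toAb (Coh.structureModule X')) (cov b J U a)
    (fun p i q => by
      have h1 := isAffineOpen_iInf_chart b J U hb (fun j => a (i j).down) (fun j => hJ _)
      exact Groth.Agent.CohqA.AffineVanish.HU_subsingleton (Coh.structureModule X') (q + 1) (Nat.succ_pos q) _ h1)
    (p + 1)
  have hcov : ⨆ k, cov b J U a k = b ⁻¹ᵁ U.1 := by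
    rw [← iSup_chart_eq b J U hb.1 a ha]
    exact Equiv.ulift.iSup_comp (g := fun k => chart b J U (a k))
  rw [hcov] at e
  have h0 := isZero_cechH b J U ξ hb hξ a ha hξa hu hE p
  have h1 : Subsingleton (CohTop.cechH (X := X'.toTopCat) (Coh.toAb (Coh.structureModule X')).obj
    (cov b J U a) (p + 1)) := AddCommGrpCat.subsingleton_of_isZero h0
  exact e.symm.toEquiv.subsingleton

end Groth.Agent.Krr.H470.BlowCoh
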