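import Groth.Agent.Krr.H470.BlowAff
import Groth.Agent.Sga67.LocBasis
import Groth.Agent.Sga67.SymPowSeq
import Groth.Agent.Fga.UnitRestrict
import Groth.Agent.S2348
import Groth.Agent.Sga67.BlowReg
import Groth.Agent.CohqA.HDIZero
import Groth.Agent.Flat2C.EtaleCentre
import Mathlib.RingTheory.Regular.Flat

/-!
# Direct images of the structure sheaf of the blow-up of a regularly imbedded closed subscheme

`R^q b_* O_{X'} = 0` for `q ≥ 1` and `O_X = b_* O_{X'}` for the blow-up `b : X' ⟶ X` of an integral scheme along a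
regularly imbedded closed subscheme of codimension `≥ 1`.
-/

set_option autoImplicit false

universe u

namespace Groth.Agent.Krr.H470.BlowMain

open CategoryTheory Limits Opposite AlgebraicGeometry BlowUp Groth.Agent.Divis Groth.Agent.Divis.BlowChart
  Groth.Agent.Divis.BlowChart2 Groth.Agent.Krr.H470.BlowAff

/-- Adapted affine opens: the ideal is generated by a nonempty weakly regular sequence of nonzero elements. -/
def Adapted {X : Scheme.{u}} (J : X.IdealSheafData) (V : X.affineOpens) : Prop :=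
  ∃ (n : ℕ) (a : Fin n → Γ(X, V.1)), 0 < n ∧ J.ideal V = Ideal.span (Set.range a) ∧ (∀ k, a k ≠ 0) ∧
    RingTheory.Sequence.IsWeaklyRegular Γ(X, V.1) (List.ofFn a)

variable {X X' Y : Scheme.{u}}

theorem ne_zero_of_isWeaklyRegular {A : Type u} [CommRing A] (rs : List A)
    (h : RingTheory.Sequence.IsWeaklyRegular A rs) (hne : Ideal.ofList rs ≠ ⊤) (k : Fin rs.length) : rs.get k ≠ 0 := by
  intro h0
  have h1 := h.regular_mod_prev k k.2
  have h2 : rs[(k : ℕ)] = 0 := h0
  rw [h2] at h1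
  have h3 : Subsingleton (A ⧸ (Ideal.ofList (rs.take k) • ⊤ : Submodule A A)) := by
    refine ⟨fun x y => h1 ?_⟩
    simp
  rw [Submodule.Quotient.subsingleton_iff] at h3
  apply hne
  rw [eq_top_iff]
  have h4 : (⊤ : Ideal A) = Ideal.ofList (rs.take k) := by
    rw [← h3]; simp
  rw [h4]
  exact Ideal.span_mono fun x hx => List.mem_of_mem_take hx

theorem exists_adapted [IsIntegral X] (i : Y ⟶ X) (hi : Mor2.IsRegularClosedImmersion i) {d : ℕ} (hd : 1 ≤ d)
    (hC : FlatMod.IsFinLocFreeOfRank d (Omega.conormal i)) (x : X) (W : X.Opens) (hW : x ∈ W) :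
    ∃ V : X.affineOpens, x ∈ V.1 ∧ V.1 ≤ W ∧ Adapted i.ker V := by
  have := hi.1
  by_cases hx : x ∈ Set.range i
  · obtain ⟨y, rfl⟩ := hx
    obtain ⟨U, hU, hyU, rs, hrs, hker⟩ := hi.2 y
    obtain ⟨f, hfle, hfx⟩ := hU.exists_basicOpen_le ⟨i y, hW⟩ hyU
    have hVU : X.basicOpen f ≤ U := X.basicOpen_le f
    let V : X.affineOpens := ⟨X.basicOpen f, hU.basicOpen f⟩
    have hloc := hU.isLocalization_basicOpen f
    let rs' : List Γ(X, V.1) := rs.map (X.presheaf.map (homOfLE hVU).op).hom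
    have hrs' : RingTheory.Sequence.IsWeaklyRegular Γ(X, V.1) rs' :=
      hrs.1.of_isLocalization Γ(X, X.basicOpen f) (Submonoid.powers f)
    have hJ : i.ker.ideal V = Ideal.ofList rs' := by
      have h1 := i.ker.map_ideal (U := V) (V := ⟨U, hU⟩) hVU
      rw [← h1, hker, Ideal.map_ofList]
      rfl
    have hlen : rs'.length = d := Groth.Agent.Sga67.SymPowSeq.length_eq i hC V.1 V.2 rs' hrs' hJ y hfx
    have hne : Ideal.ofList rs' ≠ ⊤ := by
      intro htop
      have h1 := Groth.Agent.Sga67.BlowReg.ker_le_primeIdealOf i V y hfx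
      rw [hJ, htop, top_le_iff] at h1
      exact (V.2.primeIdealOf ⟨i y, hfx⟩).2.ne_top h1
    refine ⟨V, hfx, hfle, rs'.length, rs'.get, by omega, ?_, ne_zero_of_isWeaklyRegular rs' hrs' hne, ?_⟩
    · rw [hJ, Ideal.ofList]
      congr 1
      ext x
      simp [List.mem_iff_get]
    · rwa [List.ofFn_get]
  · have hsupp : (i.ker.support : Set X) = Set.range i := by
      rw [Scheme.Hom.support_ker]
      exact i.isClosedEmbedding.isClosed_range.closure_eq
    let W' : X.Opens := ⟨(Set.range i)ᶜ, i.isClosedEmbedding.isClosed_range.isOpen_compl⟩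
    obtain ⟨V, hxV, hVW', hVW⟩ := Divis.CartierBasic.exists_affine_le W' W hx hW
    have hVne : Nonempty V.1 := ⟨⟨x, hxV⟩⟩
    refine ⟨V, hxV, hVW, 1, fun _ => 1, Nat.one_pos, ?_, fun _ => one_ne_zero, ?_⟩
    · rw [Flat2C.EtaleCentre.ideal_eq_top_of_disjoint i.ker V fun x hxV' hxs => hVW' hxV' (hsupp ▸ hxs)]
      rw [Set.range_const, Ideal.span_singleton_one]
    · have : List.ofFn (fun _ : Fin 1 => (1 : Γ(X, V.1))) = [1] := by simp
      rw [this, RingTheory.Sequence.isWeaklyRegular_singleton_iff]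
      exact IsSMulRegular.one _

/-- Vanishing of the higher direct images of the structure sheaf. -/
theorem isZero_RpushAb [IsIntegral X] [IsIntegral X'] (i : Y ⟶ X) (hi : Mor2.IsRegularClosedImmersion i) {d : ℕ}
    (hd : 1 ≤ d) (hC : FlatMod.IsFinLocFreeOfRank d (Omega.conormal i)) (b : X' ⟶ X)
    (hb : IsBlowUp b i.ker) (q : ℕ) (hq : 1 ≤ q) :
    IsZero ((Coh.RpushAb b q).obj (Coh.toAb (Coh.structureModule X'))) := by
  obtain ⟨q, rfl⟩ : ∃ p, q = p + 1 := ⟨q - 1, by omega⟩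
  refine Groth.Agent.CohqA.HDIZero.isZero_RpushAb b _ (q + 1)
    {V | ∃ V' : X.affineOpens, (V'.1 : Set X).Nonempty ∧ Adapted i.ker V' ∧ V = V'.1} ?_ ?_
  · rw [TopologicalSpace.Opens.isBasis_iff_nbhd]
    intro W x hx
    obtain ⟨V, hxV, hVW, hV⟩ := exists_adapted i hi hd hC x W hx
    exact ⟨V.1, ⟨V, ⟨x, hxV⟩, hV, rfl⟩, hxV, hVW⟩
  · rintro _ ⟨V, hVne, ⟨n, a, hn, ha, ha0, hreg⟩, rfl⟩
    exact (affine_case b i.ker V hb hVne a hn ha ha0 hreg).1 q

/-- `O_X = b_* O_{X'}`. -/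
theorem isIso_unit [IsIntegral X] [IsIntegral X'] (i : Y ⟶ X) (hi : Mor2.IsRegularClosedImmersion i) {d : ℕ}
    (hd : 1 ≤ d) (hC : FlatMod.IsFinLocFreeOfRank d (Omega.conormal i)) (b : X' ⟶ X)
    (hb : IsBlowUp b i.ker) :
    IsIso ((Scheme.Modules.pullbackPushforwardAdjunction b).unit.app (Coh.structureModule X)) := by
  have h : IsIso (Groth.Agent.Fga.UnitRestrict.unitToPush b) := by
    refine Groth.Agent.Sga67.LocBasis.isIso_of_bijective _ fun x U hx => ?_
    obtain ⟨V, hxV, hVU, ⟨n, a, hn, ha, ha0, hreg⟩⟩ := exists_adapted i hi hd hC x U hx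
    exact ⟨V.1, hVU, hxV, (affine_case b i.ker V hb ⟨x, hxV⟩ a hn ha ha0 hreg).2⟩
  rw [← Groth.Agent.Fga.UnitRestrict.unit_pullbackUnitHom] at h
  exact IsIso.of_isIso_comp_right _
    ((Scheme.Modules.pushforward b).map (Groth.Agent.Fga.UnitRestrict.pullbackUnitHom b))

end Groth.Agent.Krr.H470.BlowMain
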