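import Groth.Agent.Krr.H470.CechAlg
import Groth.Agent.CohqA.LaurentLoc
import Mathlib.RingTheory.MvPolynomial.Ideal

/-!
# The Čech complex of the blow-up of the origin of affine space

`cechExact_laurent`: the augmented Čech complex of the blow-up of `(X_i)` in `R[X_i]` is exact.
-/

set_option autoImplicit false

namespace Groth.Agent.Krr.H470.CechLaurent

open MvPolynomial Groth.Agent.CohqA.LaurentCech Groth.Agent.CohqA.LaurentLoc Groth.Agent.Krr.H470.CechAlg

universe u v

variable {ι : Type v} [Fintype ι] {R : Type u} [CommRing R]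

/-- Laurent polynomials of nonnegative degree with poles only along the variables in `I`. -/
def Mem (I : Set ι) (f : L ι R) : Prop :=
  ∀ m, f m ≠ 0 → 0 ≤ ∑ i, m i ∧ ∀ i, i ∉ I → 0 ≤ m i

lemma homotopy_mem {p : ℕ} (s : (Fin (p + 1) → ι) → L ι R) (hs : ∀ i, Mem (Set.range i) (s i)) (i : Fin p → ι) :
    Mem (Set.range i) (homotopy s i) := by
  intro m hm
  rw [homotopy_apply] at hm
  by_cases h : ∃ k, 0 ≤ m k
  · rw [dif_pos h] at hm
    have h1 := hs _ m hm
    refine ⟨h1.1, fun l hl => ?_⟩
    by_cases hlk : l = h.choose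
    · rw [hlk]; exact h.choose_spec
    · refine h1.2 l ?_
      rintro ⟨a, ha⟩
      revert ha
      refine Fin.cases ?_ (fun b => ?_) a
      · intro ha
        simp only [Fin.cons_zero] at ha
        exact hlk ha.symm
      · intro ha
        simp only [Fin.cons_succ] at ha
        exact hl ⟨b, ha⟩
  · rw [dif_neg h] at hm
    exact absurd rfl hm

theorem dd_homotopy {p : ℕ} (s : (Fin (p + 1) → ι) → L ι R) (hs : ∀ i, Mem (Set.range i) (s i))
    (hcoc : ∀ i : Fin (p + 2) → ι, dd s i = 0) (i : Fin (p + 1) → ι) : dd (homotopy s) i = s i := by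
  classical
  refine Finsupp.ext fun m => ?_
  by_cases h : ∃ k, 0 ≤ m k
  · have h1 := hcoc (Fin.cons h.choose i)
    rw [dd_def, Fin.sum_univ_succ] at h1
    simp only [cons_comp_zero_succAbove, Fin.val_zero, pow_zero, one_smul, Fin.val_succ,
      pow_succ', neg_mul, one_mul, neg_smul, Finset.sum_neg_distrib, cons_comp_succ_succAbove] at h1
    rw [← sub_eq_add_neg, sub_eq_zero] at h1
    rw [h1, dd_def]
    rw [Finsupp.finsetSum_apply, Finsupp.finsetSum_apply]
    refine Finset.sum_congr rfl fun j _ => ?_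
    rw [Finsupp.smul_apply, Finsupp.smul_apply, homotopy_apply, dif_pos h]
  · have h0 : s i m = 0 := by
      by_contra hne
      have h1 := (hs i m hne).1
      push Not at h
      have h2 : ∑ k, m k < 0 := Finset.sum_neg (fun k _ => h k) ⟨i 0, Finset.mem_univ _⟩
      omega
    rw [h0, dd_def, Finsupp.finsetSum_apply]
    refine Finset.sum_eq_zero fun j _ => ?_
    rw [Finsupp.smul_apply, homotopy_apply, dif_neg h, smul_zero]

/-- the exponent of the monomial `∏ X (i a)`. -/
noncomputable def expOf {p : ℕ} (i : Fin p → ι) : ι →₀ ℕ :=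
  ∑ a, Finsupp.single (i a) 1

omit [Fintype ι] in
lemma expOf_apply [DecidableEq ι] {p : ℕ} (i : Fin p → ι) (k : ι) :
    expOf i k = ∑ a, if i a = k then 1 else 0 := by
  rw [expOf, Finsupp.finsetSum_apply]
  exact Finset.sum_congr rfl fun a _ => by rw [Finsupp.single_apply]

omit [Fintype ι] in
lemma expOf_eq_zero {p : ℕ} (i : Fin p → ι) (k : ι) (hk : k ∉ Set.range i) : expOf i k = 0 := by
  classical
  rw [expOf_apply]
  refine Finset.sum_eq_zero fun a _ => if_neg fun h => hk ⟨a, h⟩

omit [Fintype ι] in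
lemma one_le_expOf {p : ℕ} (i : Fin p → ι) (k : ι) (hk : k ∈ Set.range i) : 1 ≤ expOf i k := by
  classical
  obtain ⟨a, rfl⟩ := hk
  rw [expOf_apply]
  refine le_trans ?_ (Finset.single_le_sum (f := fun b => if i b = i a then 1 else 0)
    (fun _ _ => Nat.zero_le _) (Finset.mem_univ a))
  simp

omit [Fintype ι] in
lemma monomial_expOf {p : ℕ} (i : Fin p → ι) :
    (monomial (expOf i) (1 : R)) = ∏ a, X (i a) := by
  rw [expOf, monomial_sum_one]
  rfl

omit [Fintype ι] in
lemma degree_expOf {p : ℕ} (i : Fin p → ι) : (expOf i).degree = p := by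
  rw [expOf, map_sum]
  simp

omit [Fintype ι] in
lemma single_pow (c : ι →₀ ℕ) (k : ℕ) :
    (AddMonoidAlgebra.single (castExp c) (1 : R) : LR ι R) ^ k = AddMonoidAlgebra.single (k • castExp c) 1 := by
  rw [← toLaurent_monomial, ← map_pow, toLaurent_monomial_pow]

variable (ι R) in
/-- The Laurent polynomials as an algebra over the polynomials. -/
@[reducible] noncomputable def laurentAlgebra : Algebra (MvPolynomial ι R) (LR ι R) :=
  (toLaurent : MvPolynomial ι R →+* LR ι R).toAlgebra

attribute [local instance] laurentAlgebra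

omit [Fintype ι] in
lemma algebraMap_eq : algebraMap (MvPolynomial ι R) (LR ι R) = toLaurent := rfl

omit [Fintype ι] in
lemma algebraMap_prod {q : ℕ} (i : Fin q → ι) (m : ℕ) :
    algebraMap (MvPolynomial ι R) (LR ι R) (∏ j, X (i j)) ^ m =
      AddMonoidAlgebra.single (m • castExp (expOf i)) 1 := by
  rw [algebraMap_eq, ← monomial_expOf, ← map_pow, toLaurent_monomial_pow]

theorem mem_of_isFr {q : ℕ} (i : Fin q → ι) (z : LR ι R)
    (hz : IsFr (X : ι → MvPolynomial ι R) i z) : Mem (Set.range i) z.coeff := by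
  obtain ⟨m, u, hu, h⟩ := hz
  rw [algebraMap_prod, algebraMap_eq, mul_comm] at h
  intro μ hμ
  have h1 : (toLaurent u).coeff (μ + m • castExp (expOf i)) = z.coeff μ := by
    rw [← h, coeff_mul_single_one, add_sub_cancel_right]
  rw [← h1] at hμ
  have h2 : ∀ k, 0 ≤ (μ + m • castExp (expOf i)) k := by
    intro k
    by_contra hneg
    exact hμ (coeff_toLaurent_eq_zero u _ k (not_le.mp hneg))
  obtain ⟨c, hc⟩ : ∃ c : ι →₀ ℕ, castExp c = μ + m • castExp (expOf i) := by
    refine ⟨Finsupp.equivFunOnFinite.symm fun k => ((μ + m • castExp (expOf i)) k).toNat, ?_⟩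
    funext k
    simp only [castExp_apply, Finsupp.equivFunOnFinite_symm_apply_apply]
    exact Int.toNat_of_nonneg (h2 k)
  rw [← hc, coeff_toLaurent] at hμ
  have h3 := (mem_pow_idealOfVars_iff (σ := ι) (R := R) (m * q) u).1 hu c (mem_support_iff.2 hμ)
  constructor
  · have h4 : ∑ k, μ k + m * (expOf i).degree = c.degree := by
      rw [← sum_castExp c, hc, ← sum_castExp (expOf i), Finset.mul_sum, ← Finset.sum_add_distrib]
      refine Finset.sum_congr rfl fun k _ => ?_
      simp
    rw [degree_expOf] at h4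
    have h5 : ((m * q : ℕ) : ℤ) ≤ c.degree := by exact_mod_cast h3
    push_cast at h5
    omega
  · intro k hk
    have h4 := h2 k
    simp only [Pi.add_apply, Pi.smul_apply, castExp_apply, expOf_eq_zero i k hk] at h4
    simpa using h4

theorem isFr_of_mem {q : ℕ} (i : Fin q → ι) (z : LR ι R) (hz : Mem (Set.range i) z.coeff) :
    IsFr (X : ι → MvPolynomial ι R) i z := by
  classical
  set m : ℕ := ∑ μ ∈ z.coeff.support, ∑ k, (μ k).natAbs with hm
  have hm1 : ∀ μ ∈ z.coeff.support, ∀ k, (μ k).natAbs ≤ m := by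
    intro μ hμ k
    have h1 : (μ k).natAbs ≤ ∑ k, (μ k).natAbs :=
      Finset.single_le_sum (f := fun k => (μ k).natAbs) (fun _ _ => Nat.zero_le _) (Finset.mem_univ k)
    have h2 : ∑ k, (μ k).natAbs ≤ ∑ μ ∈ z.coeff.support, ∑ k, (μ k).natAbs :=
      Finset.single_le_sum (f := fun μ : ι → ℤ => ∑ k, (μ k).natAbs) (fun _ _ => Nat.zero_le _) hμ
    omega
  set c := expOf i with hcdef
  set G : LR ι R := z * AddMonoidAlgebra.single (m • castExp c) 1 with hG
  have hGc : ∀ μ, G.coeff μ = z.coeff (μ - m • castExp c) := fun μ => coeff_mul_single_one _ _ _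
  have hGs : (G.coeff.support : Set (ι → ℤ)) ⊆ Set.range castExp := by
    intro μ hμ
    have hμ' : z.coeff (μ - m • castExp c) ≠ 0 := by
      rw [← hGc]
      simpa using hμ
    have h1 : ∀ k, 0 ≤ μ k := by
      intro k
      have h5 : (μ - m • castExp c) k = μ k - m * c k := by simp
      by_cases hk : k ∈ Set.range i
      · have h2 := hm1 _ (Finsupp.mem_support_iff.mpr hμ') k
        have h3 : 1 ≤ c k := one_le_expOf i k hk
        have h4 : (m : ℤ) * 1 ≤ m * c k := by
          apply mul_le_mul_of_nonneg_left _ (by positivity)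
          exact_mod_cast h3
        rw [h5] at h2
        omega
      · have h2 := (hz _ hμ').2 k hk
        have h3 : c k = 0 := expOf_eq_zero i k hk
        rw [h5, h3] at h2
        simpa using h2
    refine ⟨Finsupp.equivFunOnFinite.symm fun k => (μ k).toNat, ?_⟩
    funext k
    simp only [castExp_apply, Finsupp.equivFunOnFinite_symm_apply_apply]
    exact Int.toNat_of_nonneg (h1 k)
  have hlG : toLaurent (AddMonoidAlgebra.comapDomain castExp castExp_injective G :
        MvPolynomial ι R) = G := AddMonoidAlgebra.mapDomain_comapDomain hGs castExp_injective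
  refine ⟨m, AddMonoidAlgebra.comapDomain castExp castExp_injective G, ?_, ?_⟩
  · refine (mem_pow_idealOfVars_iff (σ := ι) (R := R) (m * q) _).2 fun c' hc' => ?_
    rw [mem_support_iff, ← coeff_toLaurent, hlG, hGc] at hc'
    have h2 := (hz _ hc').1
    have h3 : ∑ k, (castExp c' - m • castExp c) k = (c'.degree : ℤ) - m * c.degree := by
      rw [← sum_castExp c', ← sum_castExp c, Finset.mul_sum, ← Finset.sum_sub_distrib]
      refine Finset.sum_congr rfl fun k _ => ?_
      simp
    rw [h3, hcdef, degree_expOf] at h2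
    have : ((m * q : ℕ) : ℤ) ≤ c'.degree := by push_cast; omega
    exact_mod_cast this
  · rw [algebraMap_prod, algebraMap_eq, hlG, hG, mul_comm]

/-- The augmented Čech complex of the blow-up of the origin in affine space is exact. -/
theorem cechExact_laurent : CechExact (MvPolynomial ι R) (LR ι R) (X : ι → MvPolynomial ι R) := by
  intro p s hs hcoc
  have key : ∀ {q : ℕ} (t : (Fin q → ι) → LR ι R) (i : Fin (q + 1) → ι),
      dd (fun j => (t j).coeff) i = (dd t i).coeff := fun t i =>
    dd_map ((AddMonoidAlgebra.coeffAddEquiv : LR ι R ≃+ _).toAddMonoidHom) t i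
  have h1 := dd_homotopy (fun i => (s i).coeff) (fun i => mem_of_isFr i (s i) (hs i)) (fun i => by
    rw [key, hcoc]; rfl)
  refine ⟨fun i => AddMonoidAlgebra.ofCoeff (homotopy (fun i => (s i).coeff) i), fun i => ?_, fun i => ?_⟩
  · refine isFr_of_mem i _ ?_
    exact homotopy_mem (fun i => (s i).coeff) (fun i => mem_of_isFr i (s i) (hs i)) i
  · apply AddMonoidAlgebra.coeff_injective
    rw [← key]
    exact h1 i

end Groth.Agent.Krr.H470.CechLaurent
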