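import Mathlib.RingTheory.Polynomial.Basic
import Mathlib.RingTheory.MvPolynomial.Basic
import Mathlib.RingTheory.Ideal.Maps

/-!
# Powers of the ideal generated by constants and variables in a polynomial ring

In `S[X_i]`, `J = (r_i, i < k; X_i, k ≤ i)`: the powers `J ^ m` in terms of coefficients, and `X_k - r_k` is a
nonzerodivisor modulo `J ^ m` when `r_k` is one modulo the powers of `(r_i, i < k)`.
-/

set_option autoImplicit false

namespace Groth.Agent.Krr.H470.CechPow

open MvPolynomial

universe u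

variable {S : Type u} [CommRing S] {n : ℕ}

/-- The family `r_i` for `i < k`, `X_i` for `k ≤ i`. -/
noncomputable def fam (r : Fin n → S) (k : ℕ) (i : Fin n) : MvPolynomial (Fin n) S :=
  if (i : ℕ) < k then C (r i) else X i

/-- The ideal `(r_i, i < k)`. -/
def bb (r : Fin n → S) (k : ℕ) : Ideal S := Ideal.span {x | ∃ i : Fin n, (i : ℕ) < k ∧ x = r i}

lemma mem_bb (r : Fin n → S) {k : ℕ} {i : Fin n} (h : (i : ℕ) < k) : r i ∈ bb r k :=
  Ideal.subset_span ⟨i, h, rfl⟩

/-- The weight of a monomial: the degree in the variables `X_i`, `k ≤ i`. -/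
def wt (k : ℕ) (μ : Fin n →₀ ℕ) : ℕ := ∑ i : Fin n, if k ≤ (i : ℕ) then μ i else 0

lemma wt_add (k : ℕ) (μ ν : Fin n →₀ ℕ) : wt k (μ + ν) = wt k μ + wt k ν := by
  simp only [wt, Finsupp.add_apply, ← Finset.sum_add_distrib]
  refine Finset.sum_congr rfl fun i _ => ?_
  split_ifs <;> rfl

lemma wt_single (k : ℕ) (i : Fin n) (a : ℕ) : wt k (Finsupp.single i a) = if k ≤ (i : ℕ) then a else 0 := by
  classical
  unfold wt
  rw [Finset.sum_eq_single i]
  · simp
  · intro j _ hj
    rw [Finsupp.single_eq_of_ne hj]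
    simp
  · intro h
    exact absurd (Finset.mem_univ i) h

/-- The ideal of polynomials all of whose coefficients lie in `𝔟 ^ (m - wt)`. -/
def filt (r : Fin n → S) (k m : ℕ) : Submodule S (MvPolynomial (Fin n) S) where
  carrier := {g | ∀ μ, coeff μ g ∈ bb r k ^ (m - wt k μ)}
  zero_mem' := fun μ => by simp
  add_mem' := fun {f g} hf hg μ => by
    rw [coeff_add]
    exact add_mem (hf μ) (hg μ)
  smul_mem' := fun c f hf μ => by
    rw [coeff_smul, smul_eq_mul]
    exact Ideal.mul_mem_left _ _ (hf μ)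

lemma mem_filt {r : Fin n → S} {k m : ℕ} {g : MvPolynomial (Fin n) S} :
    g ∈ filt r k m ↔ ∀ μ, coeff μ g ∈ bb r k ^ (m - wt k μ) := Iff.rfl

lemma X_mul_mem_filt {r : Fin n → S} {k m : ℕ} {g : MvPolynomial (Fin n) S} (hg : g ∈ filt r k m) (i : Fin n) :
    X i * g ∈ filt r k (if k ≤ (i : ℕ) then m + 1 else m) := by
  classical
  intro μ
  rw [coeff_X_mul']
  by_cases h1 : i ∈ μ.support
  · rw [if_pos h1]
    have h3 := hg (μ - Finsupp.single i 1)
    have h4 : μ - Finsupp.single i 1 + Finsupp.single i 1 = μ := by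
      apply tsub_add_cancel_of_le
      rw [Finsupp.single_le_iff]
      exact Nat.one_le_iff_ne_zero.2 (Finsupp.mem_support_iff.1 h1)
    have h5 := wt_add k (μ - Finsupp.single i 1) (Finsupp.single i 1)
    rw [h4, wt_single] at h5
    split_ifs at h5 ⊢ with h2
    · have h6 : m + 1 - wt k μ = m - wt k (μ - Finsupp.single i 1) := by omega
      rwa [h6]
    · rw [add_zero] at h5
      rwa [h5]
  · rw [if_neg h1]
    exact Submodule.zero_mem _

lemma filt_anti (r : Fin n → S) (k : ℕ) {m m' : ℕ} (h : m ≤ m') : filt r k m' ≤ filt r k m :=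
  fun _ hg μ => Ideal.pow_le_pow_right (by omega) (hg μ)

lemma mul_mem_filt {r : Fin n → S} {k m : ℕ} {g : MvPolynomial (Fin n) S} (hg : g ∈ filt r k m)
    (f : MvPolynomial (Fin n) S) : f * g ∈ filt r k m := by
  induction f using MvPolynomial.induction_on generalizing g with
  | C c =>
    rw [← smul_eq_C_mul]
    exact Submodule.smul_mem _ _ hg
  | add p q hp hq =>
    rw [add_mul]
    exact add_mem (hp hg) (hq hg)
  | mul_X p i hp =>
    rw [mul_assoc]
    refine hp (filt_anti r k ?_ (X_mul_mem_filt hg i))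
    split_ifs <;> omega

lemma fam_mul_mem_filt {r : Fin n → S} {k m : ℕ} {g : MvPolynomial (Fin n) S} (hg : g ∈ filt r k m) (i : Fin n) :
    fam r k i * g ∈ filt r k (m + 1) := by
  unfold fam
  split_ifs with h
  · intro μ
    rw [coeff_C_mul]
    have h1 : r i * coeff μ g ∈ bb r k ^ (m - wt k μ + 1) := by
      rw [pow_succ']
      exact Ideal.mul_mem_mul (mem_bb r h) (hg μ)
    exact Ideal.pow_le_pow_right (by omega) h1
  · have := X_mul_mem_filt hg i
    rwa [if_pos (by omega)] at this

/-- The powers of the ideal generated by the family in terms of coefficients. -/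
theorem mem_span_pow_iff (r : Fin n → S) (k m : ℕ) (g : MvPolynomial (Fin n) S) :
    g ∈ Ideal.span (Set.range (fam r k)) ^ m ↔ g ∈ filt r k m := by
  constructor
  · intro hg
    induction m generalizing g with
    | zero => intro μ; simp
    | succ m ih =>
      rw [pow_succ'] at hg
      refine Submodule.mul_induction_on hg ?_ fun x y hx hy => add_mem hx hy
      intro x hx y hy
      have hy' := ih y hy
      refine Submodule.span_induction (p := fun x _ => x * y ∈ filt r k (m + 1)) ?_ ?_ ?_ ?_ hx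
      · rintro _ ⟨i, rfl⟩
        exact fam_mul_mem_filt hy' i
      · rw [zero_mul]
        exact zero_mem _
      · intro a b _ _ ha hb
        rw [add_mul]
        exact add_mem ha hb
      · intro a b _ hb
        rw [smul_eq_mul, mul_assoc]
        exact mul_mem_filt hb a
  · intro hg
    rw [← g.support_sum_monomial_coeff]
    refine Submodule.sum_mem _ fun μ _ => ?_
    have h1 : bb r k ≤ (Ideal.span (Set.range (fam r k))).comap (C : S →+* MvPolynomial (Fin n) S) := by
      rw [bb, Ideal.span_le]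
      rintro _ ⟨i, hi, rfl⟩
      refine Ideal.subset_span ⟨i, ?_⟩
      rw [fam, if_pos hi]
    have h2 : C (coeff μ g) ∈ Ideal.span (Set.range (fam r k)) ^ (m - wt k μ) := by
      have h3 := Ideal.mem_map_of_mem (C : S →+* MvPolynomial (Fin n) S) (hg μ)
      rw [Ideal.map_pow] at h3
      exact Ideal.pow_right_mono (Ideal.map_le_iff_le_comap.2 h1) _ h3
    have h3 : (monomial μ (1 : S)) ∈ Ideal.span (Set.range (fam r k)) ^ (wt k μ) := by
      rw [monomial_eq, C_1, one_mul, Finsupp.prod_fintype _ _ (fun i => by simp)]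
      have h4 : Ideal.span (Set.range (fam r k)) ^ wt k μ =
          ∏ i : Fin n, Ideal.span (Set.range (fam r k)) ^ (if k ≤ (i : ℕ) then μ i else 0) := by
        rw [Finset.prod_pow_eq_pow_sum]
        rfl
      rw [h4]
      refine Ideal.prod_mem_prod fun i _ => ?_
      split_ifs with h
      · refine Ideal.pow_mem_pow (Ideal.subset_span (Set.mem_range.2 ⟨i, ?_⟩)) _
        rw [fam, if_neg (by omega)]
      · simp
    have h4 : monomial μ (coeff μ g) = C (coeff μ g) * monomial μ 1 := by
      rw [C_mul_monomial, mul_one]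
    rw [h4]
    by_cases hle : wt k μ ≤ m
    · have h5 := Ideal.mul_mem_mul h2 h3
      rwa [← pow_add, Nat.sub_add_cancel hle] at h5
    · exact Ideal.mul_mem_left _ _ (Ideal.pow_le_pow_right (by omega) h3)

/-- Dividing by `X_k - c` preserves coefficient conditions. -/
theorem coeff_mem_of_mul (k : Fin n) (c : S) (D : (Fin n →₀ ℕ) → Ideal S)
    (hD : ∀ μ, D μ ≤ D (μ + Finsupp.single k 1)) (hc : ∀ μ x, c * x ∈ D μ → x ∈ D μ)
    (g : MvPolynomial (Fin n) S) (hg : ∀ μ, coeff μ ((X k - C c) * g) ∈ D μ) (μ : Fin n →₀ ℕ) :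
    coeff μ g ∈ D μ := by
  classical
  have key : ∀ (d : ℕ) (μ : Fin n →₀ ℕ), μ k = d → coeff μ g ∈ D μ := by
    intro d
    induction d with
    | zero =>
      intro μ hμ
      have h := hg μ
      rw [sub_mul, coeff_sub, coeff_X_mul', if_neg (by simpa using hμ), coeff_C_mul, zero_sub] at h
      exact hc μ _ (by simpa using neg_mem h)
    | succ d ih =>
      intro μ hμ
      have h := hg μ
      rw [sub_mul, coeff_sub, coeff_X_mul', if_pos (by simp [hμ]), coeff_C_mul] at h
      have h4 : μ - Finsupp.single k 1 + Finsupp.single k 1 = μ := by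
        apply tsub_add_cancel_of_le
        rw [Finsupp.single_le_iff]
        omega
      have h1 := ih (μ - Finsupp.single k 1) (by simp [hμ])
      have h2 := hD (μ - Finsupp.single k 1) h1
      rw [h4] at h2
      refine hc μ _ ?_
      have h3 := sub_mem h2 h
      rwa [sub_sub_cancel] at h3
  exact key (μ k) μ rfl

/-- `X_k - r_k` is a nonzerodivisor modulo `J ^ m`. -/
theorem mem_span_pow_of_mul (r : Fin n → S) (k : Fin n)
    (hr : ∀ (m : ℕ) (x : S), r k * x ∈ bb r k ^ m → x ∈ bb r k ^ m) (m : ℕ) (g : MvPolynomial (Fin n) S)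
    (hg : (X k - C (r k)) * g ∈ Ideal.span (Set.range (fam r k)) ^ m) :
    g ∈ Ideal.span (Set.range (fam r k)) ^ m := by
  rw [mem_span_pow_iff] at hg ⊢
  refine coeff_mem_of_mul k (r k) (fun μ => bb r k ^ (m - wt k μ)) (fun μ => ?_) (fun μ x => hr _ x) g hg
  rw [wt_add]
  exact Ideal.pow_le_pow_right (by omega)

/-- `X_k - c` is a nonzerodivisor when `c` is. -/
theorem X_sub_C_mem_nonZeroDivisors (k : Fin n) (c : S) (hc : c ∈ nonZeroDivisors S) :
    (X k - C c : MvPolynomial (Fin n) S) ∈ nonZeroDivisors (MvPolynomial (Fin n) S) := by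
  rw [mem_nonZeroDivisors_iff_left]
  intro g hg
  ext μ
  have := coeff_mem_of_mul k c (fun _ => ⊥) (fun μ => le_rfl) (fun μ x hx => by
    rw [Ideal.mem_bot] at hx ⊢
    exact (mem_nonZeroDivisors_iff_left.1 hc) x hx) g (fun μ => by rw [hg]; simp) μ
  simpa using this

theorem C_mem_nonZeroDivisors (c : S) (hc : c ∈ nonZeroDivisors S) :
    (C c : MvPolynomial (Fin n) S) ∈ nonZeroDivisors (MvPolynomial (Fin n) S) := by
  rw [mem_nonZeroDivisors_iff_left]
  intro g hg
  ext μ
  have := congrArg (coeff μ) hg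
  rw [coeff_C_mul, coeff_zero] at this
  rw [coeff_zero]
  exact (mem_nonZeroDivisors_iff_left.1 hc) _ this

theorem X_mem_nonZeroDivisors (k : Fin n) :
    (X k : MvPolynomial (Fin n) S) ∈ nonZeroDivisors (MvPolynomial (Fin n) S) := by
  rw [mem_nonZeroDivisors_iff_left]
  intro g hg
  ext μ
  have := congrArg (coeff (Finsupp.single k 1 + μ)) hg
  rw [coeff_X_mul, coeff_zero] at this
  rw [coeff_zero, this]

theorem fam_mem_nonZeroDivisors (r : Fin n → S) (hr : ∀ i, r i ∈ nonZeroDivisors S) (k : ℕ) (i : Fin n) :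
    fam r k i ∈ nonZeroDivisors (MvPolynomial (Fin n) S) := by
  unfold fam
  split_ifs
  · exact C_mem_nonZeroDivisors _ (hr i)
  · exact X_mem_nonZeroDivisors i

/-! ### Passing to the polynomial ring in one variable -/

section Poly

variable (r : Fin n → S)

theorem bb_C (k : ℕ) : bb (fun i => (Polynomial.C (r i) : Polynomial S)) k =
    (bb r k).map (Polynomial.C : S →+* Polynomial S) := by
  unfold bb
  rw [Ideal.map_span]
  congr 1
  ext x
  simp only [Set.mem_ofPred_eq, Set.mem_image]
  constructor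
  · rintro ⟨i, hi, rfl⟩
    exact ⟨_, ⟨i, hi, rfl⟩, rfl⟩
  · rintro ⟨_, ⟨i, hi, rfl⟩, rfl⟩
    exact ⟨i, hi, rfl⟩

theorem mem_bb_pow_C (j k : Fin n) (h : ∀ (m : ℕ) (x : S), r j * x ∈ bb r k ^ m → x ∈ bb r k ^ m)
    (m : ℕ) (x : Polynomial S)
    (hx : Polynomial.C (r j) * x ∈ bb (fun i => (Polynomial.C (r i) : Polynomial S)) k ^ m) :
    x ∈ bb (fun i => (Polynomial.C (r i) : Polynomial S)) k ^ m := by
  rw [bb_C, ← Ideal.map_pow, Ideal.mem_map_C_iff] at hx ⊢
  intro l
  apply h m
  have := hx l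
  rwa [Polynomial.coeff_C_mul] at this

theorem C_mem_nonZeroDivisors' (c : S) (hc : c ∈ nonZeroDivisors S) :
    (Polynomial.C c : Polynomial S) ∈ nonZeroDivisors (Polynomial S) := by
  rw [mem_nonZeroDivisors_iff_left]
  intro g hg
  ext μ
  have := congrArg (fun p => Polynomial.coeff p μ) hg
  simp only [Polynomial.coeff_C_mul, Polynomial.coeff_zero] at this
  rw [Polynomial.coeff_zero]
  exact (mem_nonZeroDivisors_iff_left.1 hc) _ this

end Poly

end Groth.Agent.Krr.H470.CechPow
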