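import Groth.Agent.Krr.H470.CechReg
import Groth.Agent.Ega4dB.KoszulReg
import Groth.Agent.CalgB.QuasiRegular
import Mathlib.RingTheory.Regular.RegularSequence
import Mathlib.RingTheory.MvPolynomial.Homogeneous

/-!
# Exactness of the Čech complex of the blow-up of a weakly regular sequence
-/

set_option autoImplicit false

namespace Groth.Agent.Krr.H470.CechQR

open MvPolynomial Groth.Agent.Krr.H470.CechAlg Groth.Agent.Krr.H470.CechPow RingTheory.Sequence

universe u

variable {A : Type u} [CommRing A]

/-- Weakly regular sequences are quasi-regular (same proof as `Groth.Agent.Sga67.BlowReg`). -/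
theorem isQuasiRegular_of_isWeaklyRegular {c : ℕ} (f : Fin c → A)
    (hf : RingTheory.Sequence.IsWeaklyRegular A (List.ofFn f)) : CAlgX.IsQuasiRegular f := by
  apply Groth.Agent.CalgB.QuasiRegular.isQuasiRegular_of_isH1Regular
  have h := Groth.Agent.Ega4dB.KoszulReg.koszulH1Zero_of_isWeaklyRegular f A hf
  intro a ha
  have h1 := h a (by simpa [mul_comm] using ha)
  refine Submodule.span_le.2 ?_ h1
  rintro _ ⟨i, j, x, rfl⟩
  have : f j • (Pi.single i x : Fin c → A) - f i • (Pi.single j x : Fin c → A) =
      x • (Pi.single i (f j) - Pi.single j (f i)) := by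
    ext l
    simp only [Pi.sub_apply, Pi.smul_apply, Pi.single_apply, smul_eq_mul]
    split_ifs <;> ring
  rw [this]
  exact Submodule.smul_mem _ _ (Submodule.subset_span ⟨i, j, rfl⟩)

/-- A nonzerodivisor modulo a quasi-regular ideal is one modulo its powers. -/
theorem mem_pow_of_mul {c : ℕ} {f : Fin c → A} (hf : CAlgX.IsQuasiRegular f) (a : A)
    (ha : ∀ x, a * x ∈ Ideal.span (Set.range f) → x ∈ Ideal.span (Set.range f)) (m : ℕ) (x : A)
    (hx : a * x ∈ Ideal.span (Set.range f) ^ m) : x ∈ Ideal.span (Set.range f) ^ m := by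
  induction m with
  | zero => simp
  | succ m ih =>
    have h1 := ih (Ideal.pow_le_pow_right (Nat.le_succ m) hx)
    rw [Ideal.mem_span_pow_iff_exists_isHomogeneous] at h1
    obtain ⟨P, hP, rfl⟩ := h1
    have h2 := hf m (C a * P) (by simpa using (isHomogeneous_C _ a).mul hP) (by
      rw [map_mul, eval_C]
      exact hx)
    have h3 : ∀ d, coeff d P ∈ Ideal.span (Set.range f) := fun d => ha _ (by
      have := h2 d
      rwa [coeff_C_mul] at this)
    rw [eval_eq']
    refine Submodule.sum_mem _ fun d hd => ?_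
    rw [pow_succ', ]
    refine Ideal.mul_mem_mul (h3 d) ?_
    have h4 : d.degree = m := by
      have := hP (mem_support_iff.1 hd)
      rwa [show (Finsupp.weight 1 : (Fin c →₀ ℕ) →+ ℕ) = Finsupp.degree from
        (Finsupp.degree_eq_weight_one).symm] at this
    rw [← h4, Finsupp.degree_eq_sum, ← Finset.prod_pow_eq_pow_sum]
    exact Ideal.prod_mem_prod fun i _ => Ideal.pow_mem_pow (Ideal.subset_span (Set.mem_range_self i)) _

omit [CommRing A] in
lemma take_ofFn {c : ℕ} (f : Fin c → A) (j : Fin c) :
    (List.ofFn f).take j = List.ofFn (fun i : Fin j => f (Fin.castLE j.2.le i)) := by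
  apply List.ext_getElem
  · simp
  · intro i h1 h2
    simp

lemma bb_eq {c : ℕ} (f : Fin c → A) (j : Fin c) :
    bb f j = Ideal.span (Set.range (fun i : Fin j => f (Fin.castLE j.2.le i))) := by
  unfold bb
  congr 1
  ext x
  constructor
  · rintro ⟨i, hi, rfl⟩
    exact ⟨⟨i, hi⟩, rfl⟩
  · rintro ⟨i, rfl⟩
    exact ⟨_, i.2, rfl⟩

lemma ofList_ofFn {c : ℕ} (v : Fin c → A) : Ideal.ofList (List.ofFn v) = Ideal.span (Set.range v) := by
  unfold Ideal.ofList
  congr 1
  ext x
  simp [List.mem_ofFn]

lemma isWeaklyRegular_take {c : ℕ} (f : Fin c → A) (j : Fin c) (hf : IsWeaklyRegular A (List.ofFn f)) :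
    IsWeaklyRegular A (List.ofFn (fun i : Fin j => f (Fin.castLE j.2.le i))) := by
  rw [← take_ofFn]
  constructor
  intro i hi
  have hi' : i < (List.ofFn f).length := lt_of_lt_of_le hi (by simp)
  have hij : i < j := by
    rw [List.length_take] at hi
    omega
  have h := hf.regular_mod_prev i hi'
  rw [List.take_take, min_eq_left hij.le, List.getElem_take]
  exact h

/-- A member of a weakly regular sequence is a nonzerodivisor modulo the powers of the ideal of the previous ones. -/
theorem mem_bb_pow_of_mul {c : ℕ} (f : Fin c → A) (hf : IsWeaklyRegular A (List.ofFn f)) (j : Fin c) (m : ℕ)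
    (x : A) (hx : f j * x ∈ bb f j ^ m) : x ∈ bb f j ^ m := by
  rw [bb_eq] at hx ⊢
  refine mem_pow_of_mul (isQuasiRegular_of_isWeaklyRegular _ (isWeaklyRegular_take f j hf)) (f j) ?_ m x hx
  intro y hy
  have h := hf.regular_mod_prev j (by simp)
  rw [take_ofFn, ofList_ofFn, List.getElem_ofFn] at h
  simp only [Fin.eta] at h
  have h2 : (Ideal.span (Set.range fun i : Fin j => f (Fin.castLE j.2.le i)) • (⊤ : Submodule A A)) =
      Ideal.span (Set.range fun i : Fin j => f (Fin.castLE j.2.le i)) := by simp
  rw [h2] at h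
  have h3 : f j • (Submodule.Quotient.mk y : A ⧸ Ideal.span (Set.range fun i : Fin j => f (Fin.castLE j.2.le i))) =
      f j • (0 : A ⧸ Ideal.span (Set.range fun i : Fin j => f (Fin.castLE j.2.le i))) := by
    rw [smul_zero, ← Submodule.Quotient.mk_smul, Submodule.Quotient.mk_eq_zero]
    exact hy
  exact (Submodule.Quotient.mk_eq_zero _).1 (h h3)

/-- Exactness of the augmented Čech complex of the blow-up of the ideal generated by a weakly regular sequence of
nonzerodivisors. -/
theorem cechExact_of_isWeaklyRegular {n : ℕ} (r : Fin n → A) (hr : ∀ i, r i ∈ nonZeroDivisors A)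
    (hf : IsWeaklyRegular A (List.ofFn r)) (L : Type*) [CommRing L] [Algebra A L]
    (hu : ∀ k, IsUnit (algebraMap A L (r k))) (hinj : Function.Injective (algebraMap A L)) : CechExact A L r :=
  Groth.Agent.Krr.H470.CechReg.cechExact r hr (fun j m x => mem_bb_pow_of_mul r hf j m x) L hu hinj

end Groth.Agent.Krr.H470.CechQR
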