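import Groth.Agent.Krr.H470.CechLaurent
import Groth.Agent.Krr.H470.CechPow

/-!
# Exactness of the Čech complex of the blow-up of a regular sequence

`cechExact`: if `r_0, …, r_{n-1} ∈ S` are nonzerodivisors and `r_j` is a nonzerodivisor modulo all the powers of
`(r_i, i < j)`, the augmented Čech complex of the blow-up of `(r_0, …, r_{n-1})` is exact.
-/

set_option autoImplicit false

namespace Groth.Agent.Krr.H470.CechReg

open MvPolynomial Groth.Agent.CohqA.LaurentLoc
open Groth.Agent.Krr.H470.CechAlg Groth.Agent.Krr.H470.CechLaurent Groth.Agent.Krr.H470.CechPow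

universe u v

section Loc

variable {ι : Type v} {A : Type u} [CommRing A] (a : ι → A)

/-- The ring of fractions with denominators the products of the `a_i`. -/
def LocF : Type u := Localization (Submonoid.closure (Set.range a))

noncomputable instance : CommRing (LocF a) := inferInstanceAs (CommRing (Localization (Submonoid.closure (Set.range a))))

noncomputable instance : Algebra A (LocF a) :=
  inferInstanceAs (Algebra A (Localization (Submonoid.closure (Set.range a))))

instance : IsLocalization (Submonoid.closure (Set.range a)) (LocF a) :=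
  inferInstanceAs (IsLocalization _ (Localization (Submonoid.closure (Set.range a))))

lemma isUnit_LocF (k : ι) : IsUnit (algebraMap A (LocF a) (a k)) :=
  IsLocalization.map_units (LocF a) (⟨a k, Submonoid.subset_closure ⟨k, rfl⟩⟩ :
    Submonoid.closure (Set.range a))

variable {a}

lemma closure_le (ha : ∀ k, a k ∈ nonZeroDivisors A) : Submonoid.closure (Set.range a) ≤ nonZeroDivisors A := by
  rw [Submonoid.closure_le]
  rintro _ ⟨k, rfl⟩
  exact ha k

lemma algebraMap_injective (ha : ∀ k, a k ∈ nonZeroDivisors A) : Function.Injective (algebraMap A (LocF a)) :=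
  IsLocalization.injective (LocF a) (closure_le ha)

lemma algebraMap_regular (ha : ∀ k, a k ∈ nonZeroDivisors A) (f : A) (hf : f ∈ nonZeroDivisors A) (z : LocF a)
    (h : algebraMap A (LocF a) f * z = 0) : z = 0 := by
  obtain ⟨⟨x, s⟩, hx⟩ := IsLocalization.surj (Submonoid.closure (Set.range a)) z
  simp only at hx
  have hu := IsLocalization.map_units (LocF a) s
  have h1 : algebraMap A (LocF a) (f * x) = 0 := by
    rw [map_mul, ← hx, ← mul_assoc, h, zero_mul]
  rw [map_eq_zero_iff _ (algebraMap_injective ha)] at h1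
  have h2 := (mem_nonZeroDivisors_iff_left.1 hf) x h1
  rw [h2, map_zero] at hx
  exact hu.mul_left_eq_zero.1 hx

variable {B : Type u} [CommRing B] {b : ι → B}

lemma exists_map (π : A →+* B) (hb : ∀ k, b k = π (a k)) :
    ∃ Pr : LocF a →+* LocF b, ∀ x, Pr (algebraMap A (LocF a) x) = algebraMap B (LocF b) (π x) := by
  have h : Submonoid.closure (Set.range a) ≤ (Submonoid.closure (Set.range b)).comap π := by
    rw [Submonoid.closure_le]
    rintro _ ⟨k, rfl⟩
    exact Submonoid.subset_closure ⟨k, hb k⟩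
  exact ⟨IsLocalization.map (LocF b) π h, fun x => IsLocalization.map_eq h x⟩

lemma exists_lift_LocF {L : Type*} [CommRing L] [Algebra A L] (hu : ∀ k, IsUnit (algebraMap A L (a k)))
    (hinj : Function.Injective (algebraMap A L)) :
    ∃ Pr : LocF a →+* L, (∀ x, Pr (algebraMap A (LocF a) x) = algebraMap A L x) ∧ Function.Injective Pr := by
  have h : ∀ y : Submonoid.closure (Set.range a), IsUnit (algebraMap A L y) := by
    rintro ⟨y, hy⟩
    simp only
    induction hy using Submonoid.closure_induction with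
    | mem x hx => obtain ⟨k, rfl⟩ := hx; exact hu k
    | one => rw [map_one]; exact isUnit_one
    | mul x y _ _ hx hy => rw [map_mul]; exact hx.mul hy
  refine ⟨IsLocalization.lift h, fun x => IsLocalization.lift_eq h x, ?_⟩
  rw [injective_iff_map_eq_zero]
  intro z hz
  obtain ⟨⟨x, s⟩, hx⟩ := IsLocalization.surj (Submonoid.closure (Set.range a)) z
  simp only at hx
  have hs := IsLocalization.map_units (LocF a) s
  have h1 := congrArg (IsLocalization.lift h) hx
  rw [map_mul, hz, zero_mul, IsLocalization.lift_eq] at h1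
  have h2 : x = 0 := hinj (by rw [← h1, map_zero])
  rw [h2, map_zero] at hx
  exact hs.mul_left_eq_zero.1 hx

end Loc

/-- The base case. -/
theorem cechExact_X (n : ℕ) (S : Type u) [CommRing S] :
    CechExact (MvPolynomial (Fin n) S) (LocF (X : Fin n → MvPolynomial (Fin n) S)) X := by
  let _ := laurentAlgebra (Fin n) S
  have hu : ∀ k, IsUnit (algebraMap (MvPolynomial (Fin n) S) (LR (Fin n) S) (X k)) := fun k => by
    have := isUnit_toLaurent_monomial (R := S) (Finsupp.single k 1)
    exact this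
  obtain ⟨Pr, hPr, hinj⟩ := exists_lift_LocF (a := (X : Fin n → MvPolynomial (Fin n) S))
    (L := LR (Fin n) S) hu toLaurent_injective
  exact (CechExact.change Pr hPr hinj (isUnit_LocF _)).2 cechExact_laurent

section Step

variable {n : ℕ} {S : Type u} [CommRing S]

/-- `S[Y][X_i] → S[X_i]`, `Y ↦ X_k`, `X_k ↦ c`. -/
noncomputable def pi (k : Fin n) (c : S) : MvPolynomial (Fin n) (Polynomial S) →+* MvPolynomial (Fin n) S :=
  eval₂Hom (Polynomial.eval₂RingHom C (X k)) (fun i => if i = k then C c else X i)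

/-- The section `S[X_i] → S[Y][X_i]`. -/
noncomputable def sg (k : Fin n) : MvPolynomial (Fin n) S →+* MvPolynomial (Fin n) (Polynomial S) :=
  eval₂Hom (C.comp Polynomial.C) (fun i => if i = k then C Polynomial.X else X i)

lemma pi_C_C (k : Fin n) (c s : S) : pi k c (C (Polynomial.C s)) = C s := by
  simp [pi]

lemma pi_C_X (k : Fin n) (c : S) : pi k c (C Polynomial.X) = X k := by
  simp [pi]

lemma pi_X_self (k : Fin n) (c : S) : pi k c (X k) = C c := by
  simp [pi]

lemma pi_X_of_ne (k : Fin n) (c : S) (i : Fin n) (h : i ≠ k) : pi k c (X i) = X i := by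
  simp [pi, h]

lemma sg_C (k : Fin n) (s : S) : sg k (C s) = C (Polynomial.C s) := by
  simp [sg]

lemma sg_X_self (k : Fin n) : sg k (X k : MvPolynomial (Fin n) S) = C Polynomial.X := by
  simp [sg]

lemma sg_X_of_ne (k : Fin n) (i : Fin n) (h : i ≠ k) : sg k (X i : MvPolynomial (Fin n) S) = X i := by
  simp [sg, h]

lemma pi_sg (k : Fin n) (c : S) (x : MvPolynomial (Fin n) S) : pi k c (sg k x) = x := by
  have h : (pi k c).comp (sg k) = RingHom.id _ := by
    apply MvPolynomial.ringHom_ext
    · intro s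
      simp [sg_C, pi_C_C]
    · intro i
      by_cases hi : i = k
      · subst hi
        simp [sg_X_self, pi_C_X]
      · simp [sg_X_of_ne k i hi, pi_X_of_ne k c i hi]
  exact congr($h x)

lemma exists_mul_of_pi_eq_zero (k : Fin n) (c : S) (x : MvPolynomial (Fin n) (Polynomial S))
    (hx : pi k c x = 0) : ∃ y, x = (X k - C (Polynomial.C c)) * y := by
  let I : Ideal (MvPolynomial (Fin n) (Polynomial S)) := Ideal.span {X k - C (Polynomial.C c)}
  have h : ((Ideal.Quotient.mk I).comp (sg k)).comp (pi k c) = Ideal.Quotient.mk I := by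
    apply MvPolynomial.ringHom_ext
    · intro p
      have h2 : ((((Ideal.Quotient.mk I).comp (sg k)).comp (pi k c)).comp C) = (Ideal.Quotient.mk I).comp C := by
        apply Polynomial.ringHom_ext
        · intro s
          simp [pi_C_C, sg_C]
        · simp [pi_C_X, sg_X_self]
      exact congr($h2 p)
    · intro i
      by_cases hi : i = k
      · subst hi
        simp only [RingHom.comp_apply, pi_X_self, sg_C]
        rw [eq_comm, Ideal.Quotient.eq]
        exact Ideal.mem_span_singleton_self _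
      · simp [pi_X_of_ne k c i hi, sg_X_of_ne k i hi]
  have h1 : Ideal.Quotient.mk I x = 0 := by
    rw [← h, RingHom.comp_apply, hx, map_zero]
  rw [Ideal.Quotient.eq_zero_iff_mem, Ideal.mem_span_singleton] at h1
  exact h1

/-- The inductive step. -/
theorem step (k : ℕ) (hk : k < n) (r : Fin n → S) (hr : ∀ i, r i ∈ nonZeroDivisors S)
    (hreg : ∀ (m : ℕ) (x : S), r ⟨k, hk⟩ * x ∈ bb r k ^ m → x ∈ bb r k ^ m)
    (h : CechExact (MvPolynomial (Fin n) (Polynomial S)) (LocF (fam (fun i => Polynomial.C (r i)) k))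
      (fam (fun i => Polynomial.C (r i)) k)) :
    CechExact (MvPolynomial (Fin n) S) (LocF (fam r (k + 1))) (fam r (k + 1)) := by
  have hr' : ∀ i, (Polynomial.C (r i) : Polynomial S) ∈ nonZeroDivisors (Polynomial S) := fun i =>
    C_mem_nonZeroDivisors' _ (hr i)
  have hb : ∀ i, fam r (k + 1) i = pi ⟨k, hk⟩ (r ⟨k, hk⟩) (fam (fun i => Polynomial.C (r i)) k i) := by
    intro i
    unfold fam
    rcases lt_trichotomy (i : ℕ) k with h1 | h1 | h1
    · rw [if_pos (by omega), if_pos h1, pi_C_C]
    · have h2 : i = ⟨k, hk⟩ := Fin.ext h1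
      subst h2
      rw [if_pos (by simp), if_neg (by simp), pi_X_self]
    · rw [if_neg (by omega), if_neg (by omega), pi_X_of_ne]
      intro h2
      rw [h2] at h1
      simp at h1
  obtain ⟨Pr, hPr⟩ := exists_map (pi ⟨k, hk⟩ (r ⟨k, hk⟩)) hb
  have h1 : pi ⟨k, hk⟩ (r ⟨k, hk⟩) (X ⟨k, hk⟩ - C (Polynomial.C (r ⟨k, hk⟩))) = 0 := by
    rw [map_sub, pi_X_self, pi_C_C, sub_self]
  have h2 : ∀ z : LocF (fam (fun i => Polynomial.C (r i)) k),
      algebraMap (MvPolynomial (Fin n) (Polynomial S)) (LocF (fam (fun i => Polynomial.C (r i)) k))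
        (X ⟨k, hk⟩ - C (Polynomial.C (r ⟨k, hk⟩))) * z = 0 → z = 0 := fun z hz =>
    algebraMap_regular (fam_mem_nonZeroDivisors _ hr' k) _
      (X_sub_C_mem_nonZeroDivisors _ _ (hr' _)) z hz
  have h3 : ∀ (m : ℕ) (u : MvPolynomial (Fin n) (Polynomial S)),
      (X ⟨k, hk⟩ - C (Polynomial.C (r ⟨k, hk⟩))) * u ∈
        Ideal.span (Set.range (fam (fun i => Polynomial.C (r i)) k)) ^ m →
      u ∈ Ideal.span (Set.range (fam (fun i => Polynomial.C (r i)) k)) ^ m := by
    intro m u hu
    exact mem_span_pow_of_mul (fun i => Polynomial.C (r i)) ⟨k, hk⟩ (mem_bb_pow_C r ⟨k, hk⟩ ⟨k, hk⟩ hreg) m u hu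
  have h4 := algebraMap_injective (fam_mem_nonZeroDivisors r hr (k + 1))
  have h5 := isUnit_LocF (fam (fun i => Polynomial.C (r i)) k)
  have h6 : Function.Surjective (pi ⟨k, hk⟩ (r ⟨k, hk⟩)) := fun x => ⟨_, pi_sg _ _ x⟩
  refine CechExact.specialize (A := MvPolynomial (Fin n) (Polynomial S)) (B := MvPolynomial (Fin n) S)
    (K := LocF (fam (fun i => Polynomial.C (r i)) k)) (L := LocF (fam r (k + 1)))
    (a := fam (fun i => Polynomial.C (r i)) k) (b := fam r (k + 1))
    (pi ⟨k, hk⟩ (r ⟨k, hk⟩)) Pr (X ⟨k, hk⟩ - C (Polynomial.C (r ⟨k, hk⟩))) ?_ ?_ ?_ ?_ ?_ ?_ ?_ ?_ ?_ ?_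
  · exact hPr
  · exact hb
  · exact h6
  · exact h5
  · exact h4
  · exact fun x hx => exists_mul_of_pi_eq_zero _ _ x hx
  · exact h1
  · exact h2
  · exact h3
  · exact h

theorem cechExact_fam (n : ℕ) (k : ℕ) (hk : k ≤ n) : ∀ (S : Type u) [CommRing S] (r : Fin n → S),
    (∀ i, r i ∈ nonZeroDivisors S) →
    (∀ j : Fin n, (j : ℕ) < k → ∀ (m : ℕ) (x : S), r j * x ∈ bb r j ^ m → x ∈ bb r j ^ m) →
    CechExact (MvPolynomial (Fin n) S) (LocF (fam r k)) (fam r k) := by
  induction k with
  | zero =>
    intro S _ r _ _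
    have h : fam r 0 = X := by
      funext i
      simp [fam]
    rw [h]
    exact cechExact_X n S
  | succ k ih =>
    intro S _ r hr hreg
    refine step k hk r hr (hreg ⟨k, hk⟩ (by simp)) ?_
    refine ih (by omega) (Polynomial S) _ (fun i => C_mem_nonZeroDivisors' _ (hr i)) ?_
    intro j hj m x hx
    exact mem_bb_pow_C r j j (hreg j (by omega)) m x hx

end Step

/-- Exactness of the augmented Čech complex of the blow-up of the ideal generated by `r_0, …, r_{n-1}`. -/
theorem cechExact {n : ℕ} {S : Type u} [CommRing S] (r : Fin n → S) (hr : ∀ i, r i ∈ nonZeroDivisors S)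
    (hreg : ∀ (j : Fin n) (m : ℕ) (x : S), r j * x ∈ bb r j ^ m → x ∈ bb r j ^ m)
    (L : Type*) [CommRing L] [Algebra S L] (hu : ∀ k, IsUnit (algebraMap S L (r k)))
    (hinj : Function.Injective (algebraMap S L)) : CechExact S L r := by
  obtain ⟨Pr, hPr, hPinj⟩ := exists_lift_LocF (a := r) hu hinj
  refine (CechExact.change Pr hPr hPinj (isUnit_LocF r)).1 ?_
  have h := cechExact_fam n n le_rfl S r hr (fun j _ => hreg j)
  have hf : ∀ k, fam r n k = (C : S →+* MvPolynomial (Fin n) S) (r k) := fun k => by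
    rw [fam, if_pos k.2]
  have hg : ∀ k, r k = (constantCoeff : MvPolynomial (Fin n) S →+* S) (fam r n k) := fun k => by
    rw [hf, constantCoeff_C]
  obtain ⟨P1, hP1⟩ := exists_map (C : S →+* MvPolynomial (Fin n) S) hf
  obtain ⟨P2, hP2⟩ := exists_map (constantCoeff : MvPolynomial (Fin n) S →+* S) hg
  refine CechExact.of_retract C P1 hP1 hf constantCoeff P2 hP2 hg (fun z => ?_) h
  have h3 : (P2.comp P1) = RingHom.id (LocF r) := by
    apply IsLocalization.ringHom_ext (Submonoid.closure (Set.range r))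
    ext x
    simp [hP1, hP2]
  exact congr($h3 z)

end Groth.Agent.Krr.H470.CechReg
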