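import Groth.Agent.Divis.BlowChart2
import Mathlib.AlgebraicGeometry.FunctionField

/-!
# Intersections of the standard charts of a blow-up
-/

set_option autoImplicit false

universe u

namespace Groth.Agent.Krr.H470.ChartInf

open CategoryTheory AlgebraicGeometry BlowUp Groth.Agent.Divis Groth.Agent.Divis.BlowChart
  Groth.Agent.Divis.BlowChart2

variable {X X' : Scheme.{u}} (b : X' ⟶ X) (J : X.IdealSheafData) (U : X.affineOpens)

/-- The function `a` on the open `W ≤ b⁻¹ U`. -/
noncomputable abbrev pb (W : X'.Opens) (e : W ≤ b ⁻¹ᵁ U.1) : Γ(X, U.1) →+* Γ(X', W) :=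
  (b.appLE U.1 W e).hom

lemma map_pb {W V : X'.Opens} (h : W ≤ V) (e : V ≤ b ⁻¹ᵁ U.1) (a : Γ(X, U.1)) :
    (X'.presheaf.map (homOfLE h).op).hom (pb b U V e a) = pb b U W (h.trans e) a := by
  have := Scheme.Hom.appLE_map b e (homOfLE h).op
  exact congr($(congrArg CommRingCat.Hom.hom this) a)

lemma exists_quot (hb : IsBlowUp b J) {a c : Γ(X, U.1)} (ha : a ∈ J.ideal U) (hc : c ∈ J.ideal U) :
    ∃ h : Γ(X', chart b J U a), pb b U _ (chart_le b J U a) c = pb b U _ (chart_le b J U a) a * h := by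
  obtain ⟨g, hg⟩ := exists_eq_pow_mul_appLE b J U hb ha 1 (m := c) (by simpa using hc)
  exact ⟨g, by rw [pow_one] at hg; exact hg⟩

theorem chart_inf (hb : IsBlowUp b J) {a c : Γ(X, U.1)} (ha : a ∈ J.ideal U) (hc : c ∈ J.ideal U)
    (h : Γ(X', chart b J U a))
    (hh : pb b U _ (chart_le b J U a) c = pb b U _ (chart_le b J U a) a * h) :
    chart b J U a ⊓ chart b J U c = X'.basicOpen h := by
  have hA := isAffineOpen_chart b J U hb ha
  have hC := isAffineOpen_chart b J U hb hc
  apply le_antisymm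
  · rintro x ⟨hxa, hxc⟩
    obtain ⟨T, hT, hxT, hTle⟩ := exists_isAffineOpen_mem_and_subset (U := chart b J U a ⊓ chart b J U c)
      (x := x) ⟨hxa, hxc⟩
    have hTa : T ≤ chart b J U a := fun y hy => (hTle hy).1
    have hTc : T ≤ chart b J U c := fun y hy => (hTle hy).2
    have eT : T ≤ b ⁻¹ᵁ U.1 := hTa.trans (chart_le b J U a)
    have h1 : (J.comap b).ideal ⟨T, hT⟩ = Ideal.span {pb b U T eT a} := by
      have h2 := (J.comap b).map_ideal (U := ⟨T, hT⟩) (V := ⟨_, hA⟩) hTa
      rw [← h2, ideal_chart b J U a hA, Ideal.map_span, Set.image_singleton]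
      congr 2
      exact map_pb b U hTa _ a
    have h2 : (J.comap b).ideal ⟨T, hT⟩ = Ideal.span {pb b U T eT c} := by
      have h2 := (J.comap b).map_ideal (U := ⟨T, hT⟩) (V := ⟨_, hC⟩) hTc
      rw [← h2, ideal_chart b J U c hC, Ideal.map_span, Set.image_singleton]
      congr 2
      exact map_pb b U hTc _ c
    have hnz := mem_nonZeroDivisors_of_ideal_eq_span hb.1 ⟨T, hT⟩ _ h1
    have h3 : pb b U T eT a ∈ Ideal.span {pb b U T eT c} := by
      rw [← h2, h1]; exact Ideal.mem_span_singleton_self _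
    rw [Ideal.mem_span_singleton] at h3
    obtain ⟨t, ht⟩ := h3
    have h4 : pb b U T eT c = pb b U T eT a * (X'.presheaf.map (homOfLE hTa).op).hom h := by
      rw [← map_pb b U hTa (chart_le b J U a) c, hh, map_mul, map_pb]
    have h5 : (X'.presheaf.map (homOfLE hTa).op).hom h * t = 1 := by
      have h6 : pb b U T eT a * ((X'.presheaf.map (homOfLE hTa).op).hom h * t) = pb b U T eT a * 1 := by
        rw [← mul_assoc, ← h4, ← ht, mul_one]
      exact (mul_cancel_left_mem_nonZeroDivisors hnz).1 h6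
    have h6 : IsUnit ((X'.presheaf.map (homOfLE hTa).op).hom h) := IsUnit.of_mul_eq_one _ h5
    have h7 := X'.basicOpen_of_isUnit h6
    have h8 := X'.basicOpen_res h (homOfLE hTa).op
    have h9 : x ∈ X'.basicOpen ((X'.presheaf.map (homOfLE hTa).op).hom h) := by rw [h7]; exact hxT
    rw [h8] at h9
    exact h9.2
  · refine le_inf (X'.basicOpen_le h) ?_
    have e : X'.basicOpen h ≤ b ⁻¹ᵁ U.1 := (X'.basicOpen_le h).trans (chart_le b J U a)
    refine le_chart b J U c ⟨X'.basicOpen h, hA.basicOpen h⟩ e ?_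
    have h2 := (J.comap b).map_ideal (U := ⟨X'.basicOpen h, hA.basicOpen h⟩) (V := ⟨_, hA⟩) (X'.basicOpen_le h)
    rw [← h2, ideal_chart b J U a hA, Ideal.map_span, Set.image_singleton]
    have h3 : (b.appLE U.1 (X'.basicOpen h) e).hom c =
        (X'.presheaf.map (homOfLE (X'.basicOpen_le h)).op).hom (pb b U _ (chart_le b J U a) a) *
          (X'.presheaf.map (homOfLE (X'.basicOpen_le h)).op).hom h := by
      rw [← map_mul, ← hh]
      exact (map_pb b U (X'.basicOpen_le h) _ c).symm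
    have h4 : IsUnit ((X'.presheaf.map (homOfLE (X'.basicOpen_le h)).op).hom h) :=
      RingedSpace.isUnit_res_basicOpen _ h
    change _ = Ideal.span {(b.appLE U.1 (X'.basicOpen h) e).hom c}
    rw [h3, Ideal.span_singleton_mul_right_unit h4]
    rfl

theorem iInf_chart (hb : IsBlowUp b J) {q : ℕ} (a : Fin (q + 1) → Γ(X, U.1)) (ha : ∀ j, a j ∈ J.ideal U)
    (h : Fin (q + 1) → Γ(X', chart b J U (a 0)))
    (hh : ∀ j, pb b U _ (chart_le b J U (a 0)) (a j) = pb b U _ (chart_le b J U (a 0)) (a 0) * h j) :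
    ⨅ j, chart b J U (a j) = X'.basicOpen (∏ j, h j) := by
  ext x
  rw [TopologicalSpace.Opens.coe_iInf, Set.mem_iInter]
  simp only [SetLike.mem_coe]
  constructor
  · intro hx
    rw [X'.mem_basicOpen _ x (hx 0), map_prod, IsUnit.prod_univ_iff]
    intro j
    rw [← X'.mem_basicOpen _ x (hx 0), ← chart_inf b J U hb (ha 0) (ha j) (h j) (hh j)]
    exact ⟨hx 0, hx j⟩
  · intro hx j
    have hx0 : x ∈ chart b J U (a 0) := X'.basicOpen_le _ hx
    rw [X'.mem_basicOpen _ x hx0, map_prod, IsUnit.prod_univ_iff] at hx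
    have := hx j
    rw [← X'.mem_basicOpen _ x hx0, ← chart_inf b J U hb (ha 0) (ha j) (h j) (hh j)] at this
    exact this.2

theorem isAffineOpen_iInf_chart (hb : IsBlowUp b J) {q : ℕ} (a : Fin (q + 1) → Γ(X, U.1))
    (ha : ∀ j, a j ∈ J.ideal U) : IsAffineOpen (⨅ j, chart b J U (a j)) := by
  choose h hh using fun j => exists_quot b J U hb (ha 0) (ha j)
  rw [iInf_chart b J U hb a ha h hh]
  exact (isAffineOpen_chart b J U hb (ha 0)).basicOpen _

end Groth.Agent.Krr.H470.ChartInf
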